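import Groth.Agent.Lib.SchDom.Universal
import Groth.Agent.H2.FlatDescend.Model
import Mathlib.RingTheory.Artinian.Module

/-!
# Flat base change of families that are injective on every open
-/

set_option autoImplicit false
set_option linter.style.haveILetI false

universe u

open TensorProduct

namespace Groth.Agent.Lib.SchDom

variable {A : Type u} [CommRing A] {M : Type u} [AddCommGroup M] [Module A M]
  {ι : Type u} {N : ι → Type u} [∀ i, AddCommGroup (N i)] [∀ i, Module A (N i)]

/-- A finite family stays injective on every open after any flat base change. -/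
theorem bcInj_of_finite [Finite ι] (u : ∀ i, M →ₗ[A] N i) (h : InjLoc u) (T : Type u) [CommRing T]
    [Algebra A T] [Module.Flat A T] : BCInj u T := by
  classical
  haveI := Fintype.ofFinite ι
  intro g x hx
  choose n hn using hx
  let v : M →ₗ[A] (∀ i, N i) := LinearMap.pi u
  have hv : Function.Injective v := by
    rw [injective_iff_map_eq_zero]
    intro m hm
    obtain ⟨k, hk⟩ := h 1 m fun i => ⟨0, by rw [pow_zero, one_smul]; exact congrFun hm i⟩
    rwa [one_pow, one_smul] at hk
  refine ⟨Finset.univ.sup n, Module.Flat.lTensor_preserves_injective_linearMap (M := T) v hv ?_⟩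
  rw [map_zero]
  refine (TensorProduct.piRight A A T N).injective ?_
  rw [map_zero]
  funext i
  have h2 : ∀ y : T ⊗[A] M, TensorProduct.piRight A A T N (v.lTensor T y) i = (u i).baseChange T y := by
    intro y
    induction y using TensorProduct.induction_on with
    | zero => simp
    | tmul t m => simp [v]
    | add a b ha hb => simp only [map_add, Pi.add_apply, ha, hb]
  obtain ⟨e, he⟩ := Nat.exists_eq_add_of_le (Finset.le_sup (f := n) (Finset.mem_univ i))
  rw [h2, map_smul, he, pow_add, mul_comm, mul_smul, hn i, smul_zero, Pi.zero_apply]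

/-- A family stays injective on every open after a flat base change of finite presentation. -/
theorem bcInj_of_flat_finitePresentation (u : ∀ i, M →ₗ[A] N i) (h : InjLoc u) (T : Type u) [CommRing T]
    [Algebra A T] [Algebra.FinitePresentation A T] [Module.Flat A T] : BCInj u T := by
  classical
  obtain ⟨A₀, B₀, _, _, _, _, hft, hfl, hfp, ⟨e⟩⟩ := H2.FlatDescend.exists_flat_model A T
  refine BCInj.of_algEquiv e.symm ?_
  haveI : IsNoetherianRing A₀ := Algebra.FiniteType.isNoetherianRing ℤ A₀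
  letI : Module A₀ M := Module.compHom M (algebraMap A₀ A)
  haveI : IsScalarTower A₀ A M := IsScalarTower.of_algebraMap_smul fun _ _ => rfl
  letI : ∀ i, Module A₀ (N i) := fun i => Module.compHom (N i) (algebraMap A₀ A)
  haveI : ∀ i, IsScalarTower A₀ A (N i) := fun i => IsScalarTower.of_algebraMap_smul fun _ _ => rfl
  intro g a hga
  obtain ⟨Sg, hSg⟩ := TensorProduct.exists_finset g
  obtain ⟨Sa, hSa⟩ := TensorProduct.exists_finset a
  choose St hSt using fun t : A ⊗[A₀] B₀ => TensorProduct.exists_finset t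
  let pairs : Finset (A × B₀) := Sg ∪ Sa.biUnion fun p => St p.1
  let A₁ : Subalgebra A₀ A := Algebra.adjoin A₀ (pairs.image Prod.fst : Set A)
  let M₀ : Submodule A₁ M := Submodule.span A₁ (Sa.image Prod.snd : Set M)
  haveI : Algebra.FiniteType A₀ A₁ := (Subalgebra.fg_iff_finiteType _).1 ⟨_, rfl⟩
  haveI : IsNoetherianRing A₁ := Algebra.FiniteType.isNoetherianRing A₀ A₁
  haveI : Module.Finite A₁ M₀ := Module.Finite.iff_fg.2 (Submodule.fg_span (Finset.finite_toSet _))
  let u₀ : ∀ i, M₀ →ₗ[A₁] N i := fun i => (u i).restrictScalars A₁ ∘ₗ M₀.subtype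
  have h₀ : InjLoc u₀ := h.transfer u₀ A₁.val.toRingHom M₀.subtype.toAddMonoidHom Subtype.val_injective
    (fun _ _ => rfl) (fun i => AddMonoidHom.id (N i)) (fun _ _ _ => rfl) (fun _ _ => rfl)
  let ρ := ringMap (R := A₀) (A := A) (A₀ := A₁) (AlgHom.id A₀ B₀)
  have hrange : ∀ p ∈ pairs, p.1 ⊗ₜ[A₀] p.2 ∈ ρ.range := fun p hp =>
    ⟨(⟨p.1, Algebra.subset_adjoin (Finset.mem_image_of_mem _ hp)⟩ : A₁) ⊗ₜ p.2, rfl⟩
  obtain ⟨g', hg'⟩ : g ∈ ρ.range := by
    rw [hSg]
    exact sum_mem fun p hp => hrange p (Finset.mem_union_left _ hp)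
  let e₀ := cmp (A := A) (AlgHom.id A₀ B₀) (M₀.subtype)
  obtain ⟨a', ha'⟩ : a ∈ LinearMap.range e₀ := by
    rw [hSa]
    refine sum_mem fun p hp => ?_
    obtain ⟨t', ht'⟩ : p.1 ∈ ρ.range := by
      rw [hSt p.1]
      exact sum_mem fun r hr => hrange r (Finset.mem_union_right _ (Finset.mem_biUnion.2 ⟨p, hp, hr⟩))
    refine ⟨t' ⊗ₜ (⟨p.2, Submodule.subset_span (Finset.mem_image_of_mem _ hp)⟩ : M₀), ?_⟩
    rw [cmp_tmul]
    exact congrArg (· ⊗ₜ[A] p.2) ht'
  have hc₀ := core u₀ h₀ (A₁ ⊗[A₀] B₀)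
  have hθ : ∀ i, Function.Injective (cmp (A := A) (AlgHom.id A₀ B₀) (LinearMap.id : N i →ₗ[A₁] N i)) := fun i =>
    cmp_injective _ _ (by
      have : TensorProduct.map ((LinearMap.id : N i →ₗ[A₁] N i).restrictScalars A₀) (AlgHom.id A₀ B₀).toLinearMap =
          LinearMap.id := TensorProduct.ext' fun _ _ => rfl
      rw [this]
      exact Function.injective_id)
  have hcomm : ∀ i x, cmp (A := A) (AlgHom.id A₀ B₀) (LinearMap.id : N i →ₗ[A₁] N i) ((u₀ i).baseChange _ x) =
      (u i).baseChange (A ⊗[A₀] B₀) (e₀ x) := by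
    intro i x
    induction x using TensorProduct.induction_on with
    | zero => simp
    | tmul t m => simp [u₀, e₀, cmp_tmul]
    | add v w hv hw => simp only [map_add, hv, hw]
  obtain ⟨n, hn⟩ := hc₀ g' a' fun i => by
    obtain ⟨n, hn⟩ := hga i
    refine ⟨n, hθ i ?_⟩
    rw [cmp_smul, map_pow, show ringMap (A := A) (AlgHom.id A₀ B₀) g' = g from hg', hcomm, show e₀ a' = a from ha', hn, map_zero]
  exact ⟨n, by rw [← show ringMap (A := A) (AlgHom.id A₀ B₀) g' = g from hg', ← ha', ← map_pow, ← cmp_smul, hn, map_zero]⟩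

/-- Injectivity after base change to an algebra follows from that at its finitely generated subalgebras. -/
theorem bcInj_of_fg {R : Type u} [CommRing R] [Algebra R A] [Module R M] [IsScalarTower R A M]
    [∀ i, Module R (N i)] [∀ i, IsScalarTower R A (N i)] [∀ i, Module.Flat R (N i)] (u : ∀ i, M →ₗ[A] N i)
    (B : Type u) [CommRing B] [Algebra R B]
    (h : ∀ B₀ : Subalgebra R B, B₀.FG → BCInj u (A ⊗[R] B₀)) : BCInj u (A ⊗[R] B) := by
  classical
  intro g a hga
  obtain ⟨Sg, hSg⟩ := TensorProduct.exists_finset g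
  obtain ⟨Sa, hSa⟩ := TensorProduct.exists_finset a
  choose St hSt using fun t : A ⊗[R] B => TensorProduct.exists_finset t
  let pairs : Finset (A × B) := Sg ∪ Sa.biUnion fun p => St p.1
  let B₀ : Subalgebra R B := Algebra.adjoin R (pairs.image Prod.snd : Set B)
  let ρ := ringMap (R := R) (A := A) (A₀ := A) B₀.val
  have hrange : ∀ p ∈ pairs, p.1 ⊗ₜ[R] p.2 ∈ ρ.range := fun p hp =>
    ⟨p.1 ⊗ₜ (⟨p.2, Algebra.subset_adjoin (Finset.mem_image_of_mem _ hp)⟩ : B₀), rfl⟩
  obtain ⟨g', hg'⟩ : g ∈ ρ.range := by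
    rw [hSg]
    exact sum_mem fun p hp => hrange p (Finset.mem_union_left _ hp)
  let e₀ := cmp (A := A) B₀.val (LinearMap.id : M →ₗ[A] M)
  obtain ⟨a', ha'⟩ : a ∈ LinearMap.range e₀ := by
    rw [hSa]
    refine sum_mem fun p hp => ?_
    obtain ⟨t', ht'⟩ : p.1 ∈ ρ.range := by
      rw [hSt p.1]
      exact sum_mem fun r hr => hrange r (Finset.mem_union_right _ (Finset.mem_biUnion.2 ⟨p, hp, hr⟩))
    exact ⟨t' ⊗ₜ p.2, (cmp_tmul _ _ _ _).trans (congrArg (· ⊗ₜ[A] p.2) ht')⟩
  have hc₀ := h B₀ ⟨_, rfl⟩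
  have hθ : ∀ i, Function.Injective (cmp (A := A) B₀.val (LinearMap.id : N i →ₗ[A] N i)) := fun i =>
    cmp_injective _ _ (Module.Flat.lTensor_preserves_injective_linearMap B₀.val.toLinearMap Subtype.val_injective)
  have hcomm : ∀ i x, cmp (A := A) B₀.val (LinearMap.id : N i →ₗ[A] N i) ((u i).baseChange _ x) =
      (u i).baseChange (A ⊗[R] B) (e₀ x) := by
    intro i x
    induction x using TensorProduct.induction_on with
    | zero => simp
    | tmul t m => simp [e₀, cmp_tmul]
    | add v w hv hw => simp only [map_add, hv, hw]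
  obtain ⟨n, hn⟩ := hc₀ g' a' fun i => by
    obtain ⟨n, hn⟩ := hga i
    refine ⟨n, hθ i ?_⟩
    rw [cmp_smul, map_pow, show ringMap (A := A) B₀.val g' = g from hg', hcomm, show e₀ a' = a from ha', hn, map_zero]
  exact ⟨n, by rw [← show ringMap (A := A) B₀.val g' = g from hg', ← ha', ← map_pow, ← cmp_smul, hn, map_zero]⟩

/-- Over an Artinian ring any family stays injective on every open after a flat base change. -/
theorem bcInj_of_artinian [IsArtinianRing A] (u : ∀ i, M →ₗ[A] N i) (h : InjLoc u) (T : Type u) [CommRing T]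
    [Algebra A T] [Module.Flat A T] : BCInj u T := by
  classical
  intro g a hga
  obtain ⟨Sa, hSa⟩ := TensorProduct.exists_finset a
  let M₀ : Submodule A M := Submodule.span A (Sa.image Prod.snd : Set M)
  haveI : Module.Finite A M₀ := Module.Finite.iff_fg.2 (Submodule.fg_span (Finset.finite_toSet _))
  haveI : IsArtinian A M₀ := inferInstance
  let K : Finset ι → Submodule A M₀ := fun F => ⨅ i ∈ F, LinearMap.ker (u i ∘ₗ M₀.subtype)
  obtain ⟨_, ⟨F, rfl⟩, hF⟩ := IsArtinian.set_has_minimal (Set.range K) ⟨_, ∅, rfl⟩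
  have hK : ∀ m : M₀, (∀ i : F, u i.1 m = 0) → m = 0 := by
    intro m hm
    have hmF : m ∈ K F := by
      simp only [K, Submodule.mem_iInf, LinearMap.mem_ker]
      exact fun i hi => hm ⟨i, hi⟩
    have hall : ∀ i, u i m = 0 := fun i => by
      have hle : K (insert i F) ≤ K F := le_iInf₂ fun j hj => iInf₂_le_of_le j (Finset.mem_insert_of_mem hj) le_rfl
      have heq : K (insert i F) = K F := by
        by_contra hne
        exact hF _ ⟨_, rfl⟩ (lt_of_le_of_ne hle hne)
      rw [← heq] at hmF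
      simp only [K, Submodule.mem_iInf, LinearMap.mem_ker] at hmF
      exact hmF i (Finset.mem_insert_self i F)
    obtain ⟨n, hn⟩ := h 1 m fun i => ⟨0, by rw [pow_zero, one_smul]; exact hall i⟩
    rw [one_pow, one_smul] at hn
    exact Subtype.ext hn
  have h₀ : InjLoc fun i : F => u i.1 ∘ₗ M₀.subtype := by
    intro c m hm
    obtain ⟨n, hn⟩ := IsArtinian.monotone_stabilizes
      ⟨fun k => OrderDual.toDual (Ideal.span {c ^ k}),
        fun k l hkl => Ideal.span_singleton_le_span_singleton.2 (pow_dvd_pow c hkl)⟩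
    refine ⟨n, hK _ fun i => ?_⟩
    obtain ⟨k, hk⟩ := hm i
    show u i.1 ((c ^ n • m : M₀) : M) = 0
    rw [Submodule.coe_smul, map_smul]
    rcases le_total k n with hkn | hnk
    · obtain ⟨e, rfl⟩ := Nat.exists_eq_add_of_le hkn
      rw [pow_add, mul_comm, mul_smul]
      exact (congrArg _ hk).trans (smul_zero _)
    · have h1 : Ideal.span {c ^ n} = Ideal.span {c ^ k} := OrderDual.toDual.injective (hn k hnk)
      obtain ⟨r, hr⟩ := Ideal.mem_span_singleton'.1 (h1 ▸ Ideal.mem_span_singleton_self (c ^ n))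
      rw [← hr, mul_smul]
      exact (congrArg _ hk).trans (smul_zero _)
  obtain ⟨a', ha'⟩ : a ∈ LinearMap.range (M₀.subtype.baseChange T) := by
    rw [hSa]
    exact sum_mem fun p hp => ⟨p.1 ⊗ₜ ⟨p.2, Submodule.subset_span (Finset.mem_image_of_mem _ hp)⟩, rfl⟩
  obtain ⟨n, hn⟩ := bcInj_of_finite _ h₀ T g a' fun i => by
    obtain ⟨n, hn⟩ := hga i.1
    refine ⟨n, ?_⟩
    show g ^ n • (u i.1 ∘ₗ M₀.subtype).baseChange T a' = 0
    rw [LinearMap.baseChange_comp, LinearMap.comp_apply, ha']
    exact hn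
  exact ⟨n, by rw [← ha', ← map_smul, hn, map_zero]⟩

omit M [AddCommGroup M] [Module A M] in
/-- An element killed by a flat base change has annihilator generating the unit ideal upstairs. -/
theorem map_ann_eq_top {P : Type u} [AddCommGroup P] [Module A P] {T : Type u} [CommRing T] [Algebra A T]
    [Module.Flat A T] {m : P} (hm : (1 : T) ⊗ₜ[A] m = 0) :
    Ideal.map (algebraMap A T) (LinearMap.ker (LinearMap.toSpanSingleton A P m)) = ⊤ := by
  set I : Ideal A := LinearMap.ker (LinearMap.toSpanSingleton A P m)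
  let ψ : (A ⧸ I) →ₗ[A] P := Submodule.liftQ I (LinearMap.toSpanSingleton A P m) le_rfl
  have hψ : Function.Injective ψ := LinearMap.ker_eq_bot.1 (Submodule.ker_liftQ_eq_bot _ _ le_rfl le_rfl)
  have h1 : (1 : T) ⊗ₜ[A] (Ideal.Quotient.mk I 1) = 0 := by
    refine Module.Flat.lTensor_preserves_injective_linearMap (M := T) ψ hψ ?_
    rw [LinearMap.lTensor_tmul, map_zero]
    exact (congrArg ((1 : T) ⊗ₜ[A] ·) (one_smul A m)).trans hm
  have h2 := congrArg (TensorProduct.tensorQuotEquivQuotSMul T I) h1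
  rw [map_zero, TensorProduct.tensorQuotEquivQuotSMul_tmul_mk, one_smul, Submodule.Quotient.mk_eq_zero,
    Ideal.smul_top_eq_map] at h2
  exact (Ideal.eq_top_iff_one _).2 h2

end Groth.Agent.Lib.SchDom
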