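import Groth.Agent.Lib.SchDom.Ring
import Mathlib.AlgebraicGeometry.Morphisms.Flat
import Mathlib.AlgebraicGeometry.Fiber

/-!
# Schematically dominant families on affine charts
-/

set_option autoImplicit false
set_option linter.style.haveILetI false

universe u

open CategoryTheory Limits AlgebraicGeometry TensorProduct

namespace Groth.Agent.Lib.SchDom

variable {X S S' : Scheme.{u}} {ι : Type u} {Z : ι → Scheme.{u}}

/-- The family is schematically dominant. -/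
def SD (f : ∀ i, Z i ⟶ X) : Prop :=
  ∀ (V : X.Opens) (t : Γ(X, V)), (∀ i, (f i).app V t = 0) → t = 0

theorem res_appLE {Y : Scheme.{u}} (f : X ⟶ Y) {V : Y.Opens} {W W' : X.Opens} (e : W ≤ f ⁻¹ᵁ V)
    (h : W' ≤ W) (a : Γ(Y, V)) :
    X.presheaf.map (homOfLE h).op (f.appLE V W e a) = f.appLE V W' (h.trans e) a := by
  rw [← CategoryTheory.comp_apply, Scheme.Hom.appLE_map]

theorem appLE_res {Y : Scheme.{u}} (f : X ⟶ Y) {V V' : Y.Opens} {W : X.Opens} (h : V' ≤ V)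
    (e : W ≤ f ⁻¹ᵁ V') (a : Γ(Y, V)) :
    f.appLE V' W e (Y.presheaf.map (homOfLE h).op a) = f.appLE V W (e.trans (f.preimage_mono h)) a := by
  rw [← CategoryTheory.comp_apply, Scheme.Hom.map_appLE]

theorem appLE_appLE {Y T : Scheme.{u}} (f : X ⟶ Y) (g : Y ⟶ T) {U : T.Opens} {V : Y.Opens} {W : X.Opens}
    (e₁ : V ≤ g ⁻¹ᵁ U) (e₂ : W ≤ f ⁻¹ᵁ V) (a : Γ(T, U)) :
    f.appLE V W e₂ (g.appLE U V e₁ a) = (f ≫ g).appLE U W (e₂.trans (f.preimage_mono e₁)) a := by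
  rw [← CategoryTheory.comp_apply, Scheme.Hom.appLE_comp_appLE]

theorem injHom_of_sd (f : ∀ i, Z i ⟶ X) (h : SD f) {V : X.Opens} (hV : IsAffineOpen V)
    (κ : ι → Type u) (W : ∀ i, κ i → (Z i).Opens) (hle : ∀ i k, W i k ≤ f i ⁻¹ᵁ V)
    (hcov : ∀ i, ∀ z, f i z ∈ V → ∃ k, z ∈ W i k) :
    InjHom (fun x : Σ i, κ i => ((f x.1).appLE V (W x.1 x.2) (hle x.1 x.2)).hom) := by
  intro g a ha
  have ht : X.presheaf.map (homOfLE (X.basicOpen_le g)).op a = 0 := by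
    refine h _ _ fun i => ?_
    refine TopCat.Sheaf.eq_of_locally_eq' (Z i).sheaf (fun k => W i k ⊓ f i ⁻¹ᵁ X.basicOpen g) _
      (fun k => homOfLE inf_le_right) ?_ _ _ fun k => ?_
    · intro z hz
      obtain ⟨k, hk⟩ := hcov i z (X.basicOpen_le g hz)
      exact TopologicalSpace.Opens.mem_iSup.2 ⟨k, hk, hz⟩
    · refine Eq.trans ?_ (map_zero _).symm
      show (Z i).presheaf.map _ _ = 0
      rw [← CategoryTheory.comp_apply, ← Scheme.Hom.appLE, appLE_res]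
      · obtain ⟨n, hn⟩ := ha ⟨i, k⟩
        have hu : IsUnit ((f i).appLE V (W i k ⊓ f i ⁻¹ᵁ X.basicOpen g)
            (inf_le_left.trans (hle i k)) g) := by
          rw [← appLE_res (f i) (X.basicOpen_le g) inf_le_right]
          exact (RingedSpace.isUnit_res_basicOpen _ g).map _
        have h0 := congrArg ((Z i).presheaf.map (homOfLE
          (inf_le_left : W i k ⊓ f i ⁻¹ᵁ X.basicOpen g ≤ W i k)).op) hn
        rw [map_zero] at h0
        have h1 : (f i).appLE V _ (inf_le_left.trans (hle i k)) (g ^ n * a) = 0 :=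
          (res_appLE (f i) (hle i k) inf_le_left _).symm.trans h0
        rw [map_mul, map_pow] at h1
        exact (hu.pow n).mul_right_eq_zero.1 h1
  haveI := hV.isLocalization_basicOpen g
  have ht' : algebraMap Γ(X, V) Γ(X, X.basicOpen g) a = 0 := ht
  obtain ⟨⟨_, n, rfl⟩, hn⟩ := (IsLocalization.map_eq_zero_iff (Submonoid.powers g) _ a).1 ht'
  exact ⟨n, hn⟩

theorem sd_of_injHom (f : ∀ i, Z i ⟶ X)
    (h : ∀ x : X, ∃ V : X.Opens, IsAffineOpen V ∧ x ∈ V ∧ ∃ (κ : ι → Type u) (W : ∀ i, κ i → (Z i).Opens)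
      (_ : ∀ i k, IsAffineOpen (W i k)) (hle : ∀ i k, W i k ≤ f i ⁻¹ᵁ V),
      InjHom (fun x : Σ i, κ i => ((f x.1).appLE V (W x.1 x.2) (hle x.1 x.2)).hom)) :
    SD f := by
  intro U t ht
  refine TopCat.Sheaf.eq_of_locally_eq' X.sheaf
    (fun D : {D : X.Opens // D ≤ U ∧ ∀ (hD : D ≤ U), X.presheaf.map (homOfLE hD).op t = 0} => D.1) _
    (fun D => homOfLE D.2.1) ?_ _ _ fun D => Eq.trans (D.2.2 D.2.1) (map_zero _).symm
  intro x hx
  obtain ⟨V, hV, hxV, κ, W, hW, hle, hinj⟩ := h x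
  obtain ⟨g, hgU, hxg⟩ := hV.exists_basicOpen_le ⟨x, hx⟩ hxV
  refine TopologicalSpace.Opens.mem_iSup.2 ⟨⟨X.basicOpen g, hgU, fun hD => ?_⟩, hxg⟩
  haveI := hV.isLocalization_basicOpen g
  obtain ⟨⟨a, ⟨_, n, rfl⟩⟩, han⟩ :=
    IsLocalization.surj (Submonoid.powers g) (X.presheaf.map (homOfLE hD).op t)
  have hres : ∀ y : Γ(X, V), algebraMap Γ(X, V) Γ(X, X.basicOpen g) y =
      X.presheaf.map (homOfLE (X.basicOpen_le g)).op y := fun _ => rfl
  simp only [hres] at han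
  obtain ⟨m, hm⟩ := hinj g a fun ⟨i, k⟩ => by
    haveI := (hW i k).isLocalization_basicOpen ((f i).appLE V (W i k) (hle i k) g)
    have hb : (Z i).basicOpen ((f i).appLE V (W i k) (hle i k) g) ≤ f i ⁻¹ᵁ X.basicOpen g := by
      rw [Scheme.basicOpen_appLE]
      exact inf_le_right
    have h1 := congrArg ((f i).appLE (X.basicOpen g) _ hb) han
    rw [map_mul, appLE_res, appLE_res, appLE_res] at h1
    have h2 : (f i).appLE U _ (hb.trans ((f i).preimage_mono hD)) t = 0 := by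
      show (Z i).presheaf.map _ ((f i).app U t) = 0
      rw [ht i, map_zero]
    rw [h2, zero_mul] at h1
    have h3 : algebraMap Γ(Z i, W i k) Γ(Z i, (Z i).basicOpen ((f i).appLE V (W i k) (hle i k) g))
        ((f i).appLE V (W i k) (hle i k) a) = 0 :=
      (res_appLE (f i) (hle i k) ((Z i).basicOpen_le _) a).trans h1.symm
    obtain ⟨⟨_, m, rfl⟩, hm⟩ := (IsLocalization.map_eq_zero_iff
      (Submonoid.powers ((f i).appLE V (W i k) (hle i k) g)) _ _).1 h3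
    exact ⟨m, by rw [map_mul, map_pow]; exact hm⟩
  have h4 := congrArg (algebraMap Γ(X, V) Γ(X, X.basicOpen g)) hm
  rw [map_mul, map_pow, map_zero] at h4
  have hu := IsLocalization.Away.algebraMap_isUnit (S := Γ(X, X.basicOpen g)) g
  rw [(hu.pow m).mul_right_eq_zero, hres] at h4
  rw [h4, (IsUnit.mul_left_eq_zero ?_)] at han
  · exact han
  · rw [← hres, map_pow]
    exact hu.pow n

/-- Sections of a fibre product over affine opens. -/
theorem exists_chartEquiv {P T : Scheme.{u}} {g : P ⟶ X} {iY : P ⟶ T} {iX : X ⟶ S} {f : T ⟶ S}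
    (H : IsPullback g iY iX f) {US : S.Opens} {UX : X.Opens} {UT : T.Opens} (hUS : IsAffineOpen US)
    (hUX : IsAffineOpen UX) (hUT : IsAffineOpen UT) (eX : UX ≤ iX ⁻¹ᵁ US) (eT : UT ≤ f ⁻¹ᵁ US) :
    IsAffineOpen (g ⁻¹ᵁ UX ⊓ iY ⁻¹ᵁ UT) ∧
      letI := (iX.appLE US UX eX).hom.toAlgebra
      letI := (f.appLE US UT eT).hom.toAlgebra
      ∃ e : Γ(X, UX) ⊗[Γ(S, US)] Γ(T, UT) ≃+* Γ(P, g ⁻¹ᵁ UX ⊓ iY ⁻¹ᵁ UT),
        ∀ a b, e (a ⊗ₜ b) = g.appLE UX _ inf_le_left a * iY.appLE UT _ inf_le_right b := by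
  refine ⟨?_, ?_⟩
  · haveI : IsAffine _ := hUS
    haveI : IsAffine _ := hUT
    haveI : IsAffine _ := hUX
    exact .of_isIso (Scheme.Hom.isPullback_resLE H eT eX rfl).isoPullback.hom
  · letI := (iX.appLE US UX eX).hom.toAlgebra
    letI := (f.appLE US UT eT).hom.toAlgebra
    have hp : IsPushout (CommRingCat.ofHom (algebraMap Γ(S, US) Γ(X, UX)))
        (CommRingCat.ofHom (algebraMap Γ(S, US) Γ(T, UT)))
        (g.appLE UX (g ⁻¹ᵁ UX ⊓ iY ⁻¹ᵁ UT) inf_le_left) (iY.appLE UT _ inf_le_right) :=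
      (isIso_pushoutSection_iff H eT eX rfl).1 (isIso_pushoutSection_of_isAffineOpen H eT eX rfl hUS hUT hUX)
    let e := ((CommRingCat.isPushout_tensorProduct Γ(S, US) Γ(X, UX) Γ(T, UT)).isoIsPushout _ _ hp).commRingCatIsoToRingEquiv
    refine ⟨e, fun a b => ?_⟩
    rw [show a ⊗ₜ[Γ(S, US)] b = (a ⊗ₜ 1) * (1 ⊗ₜ b) by simp, map_mul]
    have h1 := congr($((CommRingCat.isPushout_tensorProduct Γ(S, US) Γ(X, UX) Γ(T, UT)).inl_isoIsPushout_hom _ _ hp) a)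
    have h2 := congr($((CommRingCat.isPushout_tensorProduct Γ(S, US) Γ(X, UX) Γ(T, UT)).inr_isoIsPushout_hom _ _ hp) b)
    exact congrArg₂ (· * ·) h1 h2

/-- The base change of a family. -/
noncomputable abbrev pbFam (p : X ⟶ S) (g : S' ⟶ S) (f : ∀ i, Z i ⟶ X) (i : ι) :
    pullback (f i ≫ p) g ⟶ pullback p g :=
  pullback.map (f i ≫ p) g p g (f i) (𝟙 S') (𝟙 S) (Category.comp_id _)
    ((Category.comp_id _).trans (Category.id_comp _).symm)

/-- Index type of the charts of the sources over an open `V`. -/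
def Chart (f : ∀ i, Z i ⟶ X) (V : X.Opens) (i : ι) : Type u :=
  {W : (Z i).Opens // IsAffineOpen W ∧ W ≤ f i ⁻¹ᵁ V}

/-- The statement on a chart. -/
def ChartInj (p : X ⟶ S) (g : S' ⟶ S) (f : ∀ i, Z i ⟶ X) {U : S.Opens} {V : X.Opens} {U' : S'.Opens}
    (eV : V ≤ p ⁻¹ᵁ U) (eU : U' ≤ g ⁻¹ᵁ U) : Prop :=
  letI := (p.appLE U V eV).hom.toAlgebra
  letI := (g.appLE U U' eU).hom.toAlgebra
  letI : ∀ x : Σ i, Chart f V i, Algebra Γ(X, V) Γ(Z x.1, x.2.1) :=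
    fun x => ((f x.1).appLE V x.2.1 x.2.2.2).hom.toAlgebra
  BCInj (fun x : Σ i, Chart f V i => Algebra.linearMap Γ(X, V) Γ(Z x.1, x.2.1))
    (Γ(X, V) ⊗[Γ(S, U)] Γ(S', U'))

theorem chartInj_iff (p : X ⟶ S) (g : S' ⟶ S) (f : ∀ i, Z i ⟶ X) {U : S.Opens} {V : X.Opens}
    {U' : S'.Opens} (hU : IsAffineOpen U) (hV : IsAffineOpen V) (hU' : IsAffineOpen U')
    (eV : V ≤ p ⁻¹ᵁ U) (eU : U' ≤ g ⁻¹ᵁ U)
    (hle : ∀ (i : ι) (k : Chart f V i), pullback.fst (f i ≫ p) g ⁻¹ᵁ k.1 ⊓ pullback.snd (f i ≫ p) g ⁻¹ᵁ U' ≤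
      pbFam p g f i ⁻¹ᵁ (pullback.fst p g ⁻¹ᵁ V ⊓ pullback.snd p g ⁻¹ᵁ U')) :
    ChartInj p g f eV eU ↔ InjHom (fun x : Σ i, Chart f V i =>
      ((pbFam p g f x.1).appLE (pullback.fst p g ⁻¹ᵁ V ⊓ pullback.snd p g ⁻¹ᵁ U')
        (pullback.fst (f x.1 ≫ p) g ⁻¹ᵁ x.2.1 ⊓ pullback.snd (f x.1 ≫ p) g ⁻¹ᵁ U') (hle x.1 x.2)).hom) := by
  unfold ChartInj
  letI := (p.appLE U V eV).hom.toAlgebra
  letI := (g.appLE U U' eU).hom.toAlgebra
  letI : ∀ x : Σ i, Chart f V i, Algebra Γ(X, V) Γ(Z x.1, x.2.1) :=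
    fun x => ((f x.1).appLE V x.2.1 x.2.2.2).hom.toAlgebra
  letI : ∀ x : Σ i, Chart f V i, Algebra Γ(S, U) Γ(Z x.1, x.2.1) :=
    fun x => ((f x.1 ≫ p).appLE U x.2.1 (x.2.2.2.trans ((f x.1).preimage_mono eV))).hom.toAlgebra
  haveI : ∀ x : Σ i, Chart f V i, IsScalarTower Γ(S, U) Γ(X, V) Γ(Z x.1, x.2.1) := fun x =>
    IsScalarTower.of_algebraMap_eq fun r => (appLE_appLE (f x.1) p eV x.2.2.2 r).symm
  rw [bcInj_linearMap_iff]
  obtain ⟨-, eO, heO⟩ := exists_chartEquiv (IsPullback.of_hasPullback p g) hU hV hU' eV eU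
  have hW := fun x : Σ i, Chart f V i => (exists_chartEquiv (IsPullback.of_hasPullback (f x.1 ≫ p) g)
    hU x.2.2.1 hU' (x.2.2.2.trans ((f x.1).preimage_mono eV)) eU).2
  choose eW heW using hW
  have hcomm : ∀ (x : Σ i, Chart f V i) (t : Γ(X, V) ⊗[Γ(S, U)] Γ(S', U')),
      eW x ((tmap (C := fun x : Σ i, Chart f V i => Γ(Z x.1, x.2.1)) x) t) = (pbFam p g f x.1).appLE _ _ (hle x.1 x.2) (eO t) := by
    intro x t
    induction t using TensorProduct.induction_on with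
    | zero => simp
    | add s t hs ht => simp only [map_add, hs, ht]
    | tmul a b =>
      rw [show (tmap (C := fun x : Σ i, Chart f V i => Γ(Z x.1, x.2.1)) x) (a ⊗ₜ[Γ(S, U)] b) =
        ((f x.1).appLE V x.2.1 x.2.2.2 a) ⊗ₜ b from rfl, heW, heO, map_mul, appLE_appLE, appLE_appLE,
        appLE_appLE]
      have h1 : pbFam p g f x.1 ≫ pullback.fst p g = pullback.fst (f x.1 ≫ p) g ≫ f x.1 :=
        pullback.lift_fst ..
      have h2 : pbFam p g f x.1 ≫ pullback.snd p g = pullback.snd (f x.1 ≫ p) g :=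
        (pullback.lift_snd ..).trans (Category.comp_id _)
      simp only [h1, h2]
  refine ⟨fun h => h.of_equiv eO (fun x => (eW x).toRingHom) (fun x => (eW x).injective) hcomm,
    fun h => h.of_equiv eO.symm (fun x => (eW x).symm.toRingHom) (fun x => (eW x).symm.injective) fun x t => ?_⟩
  show (eW x).symm _ = (tmap (C := fun x : Σ i, Chart f V i => Γ(Z x.1, x.2.1)) x) (eO.symm t)
  rw [RingEquiv.symm_apply_eq, hcomm, eO.apply_symm_apply]

theorem chart_le (p : X ⟶ S) (g : S' ⟶ S) (f : ∀ i, Z i ⟶ X) (V : X.Opens) (U' : S'.Opens) (i : ι)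
    (k : Chart f V i) :
    pullback.fst (f i ≫ p) g ⁻¹ᵁ k.1 ⊓ pullback.snd (f i ≫ p) g ⁻¹ᵁ U' ≤
      pbFam p g f i ⁻¹ᵁ (pullback.fst p g ⁻¹ᵁ V ⊓ pullback.snd p g ⁻¹ᵁ U') := by
  rintro z ⟨h1, h2⟩
  refine ⟨?_, ?_⟩
  · show pullback.fst p g (pbFam p g f i z) ∈ V
    rw [← Scheme.Hom.comp_apply, pullback.lift_fst]
    exact k.2.2 h1
  · show pullback.snd p g (pbFam p g f i z) ∈ U'
    rw [← Scheme.Hom.comp_apply, pullback.lift_snd, Category.comp_id]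
    exact h2

theorem chartInj_of_sd (p : X ⟶ S) (g : S' ⟶ S) (f : ∀ i, Z i ⟶ X) (h : SD (pbFam p g f)) {U : S.Opens}
    {V : X.Opens} {U' : S'.Opens} (hU : IsAffineOpen U) (hV : IsAffineOpen V) (hU' : IsAffineOpen U')
    (eV : V ≤ p ⁻¹ᵁ U) (eU : U' ≤ g ⁻¹ᵁ U) : ChartInj p g f eV eU := by
  obtain ⟨hO, -⟩ := exists_chartEquiv (IsPullback.of_hasPullback p g) hU hV hU' eV eU
  rw [chartInj_iff p g f hU hV hU' eV eU (chart_le p g f V U')]
  refine injHom_of_sd (pbFam p g f) h hO (Chart f V)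
    (fun i k => pullback.fst (f i ≫ p) g ⁻¹ᵁ k.1 ⊓ pullback.snd (f i ≫ p) g ⁻¹ᵁ U') (chart_le p g f V U') ?_
  rintro i z ⟨h1, h2⟩
  replace h1 : pullback.fst p g (pbFam p g f i z) ∈ V := h1
  replace h2 : pullback.snd p g (pbFam p g f i z) ∈ U' := h2
  rw [← Scheme.Hom.comp_apply, pullback.lift_fst] at h1
  rw [← Scheme.Hom.comp_apply, pullback.lift_snd, Category.comp_id] at h2
  obtain ⟨W, hW, hzW, hWle⟩ := AlgebraicGeometry.exists_isAffineOpen_mem_and_subset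
    (x := pullback.fst (f i ≫ p) g z) (U := f i ⁻¹ᵁ V) h1
  exact ⟨⟨W, hW, hWle⟩, hzW, h2⟩

theorem sd_of_chartInj (p : X ⟶ S) (g : S' ⟶ S) (f : ∀ i, Z i ⟶ X)
    (h : ∀ s : S, ∃ U : S.Opens, IsAffineOpen U ∧ s ∈ U ∧ ∀ (V : X.Opens) (U' : S'.Opens),
      IsAffineOpen V → IsAffineOpen U' → ∀ (eV : V ≤ p ⁻¹ᵁ U) (eU : U' ≤ g ⁻¹ᵁ U), ChartInj p g f eV eU) :
    SD (pbFam p g f) := by
  refine sd_of_injHom _ fun y => ?_
  obtain ⟨U, hU, hyU, hchart⟩ := h (p (pullback.fst p g y))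
  obtain ⟨V, hV, hyV, eV⟩ := AlgebraicGeometry.exists_isAffineOpen_mem_and_subset
    (x := pullback.fst p g y) (U := p ⁻¹ᵁ U) hyU
  obtain ⟨U', hU', hyU', eU⟩ := AlgebraicGeometry.exists_isAffineOpen_mem_and_subset
    (x := pullback.snd p g y) (U := g ⁻¹ᵁ U) (by
      show g (pullback.snd p g y) ∈ U
      rw [← Scheme.Hom.comp_apply, ← pullback.condition, Scheme.Hom.comp_apply]
      exact hyU)
  obtain ⟨hO, -⟩ := exists_chartEquiv (IsPullback.of_hasPullback p g) hU hV hU' eV eU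
  refine ⟨_, hO, ⟨hyV, hyU'⟩, Chart f V,
    fun i k => pullback.fst (f i ≫ p) g ⁻¹ᵁ k.1 ⊓ pullback.snd (f i ≫ p) g ⁻¹ᵁ U',
    fun i k => (exists_chartEquiv (IsPullback.of_hasPullback (f i ≫ p) g) hU k.2.1 hU'
      (k.2.2.trans ((f i).preimage_mono eV)) eU).1, chart_le p g f V U', ?_⟩
  exact (chartInj_iff p g f hU hV hU' eV eU (chart_le p g f V U')).1 (hchart V U' hV hU' eV eU)

end Groth.Agent.Lib.SchDom
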