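import Groth.Agent.Lib.SchDom.Scheme
import Mathlib.AlgebraicGeometry.ResidueField

/-!
# Charts of the fibres
-/

set_option autoImplicit false
set_option linter.style.haveILetI false

universe u

open CategoryTheory Limits AlgebraicGeometry TensorProduct

namespace Groth.Agent.Lib.SchDom

/-- The residue field of a point of an affine open is the residue field of the prime. -/
theorem exists_residue_equiv {S : Scheme.{u}} {U : S.Opens} (hU : IsAffineOpen U) (p : PrimeSpectrum Γ(S, U)) :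
    ∃ (s : S) (h : (⊤ : (Spec (S.residueField s)).Opens) ≤ S.fromSpecResidueField s ⁻¹ᵁ U),
      letI := ((S.fromSpecResidueField s).appLE U ⊤ h).hom.toAlgebra
      Nonempty (Γ(Spec (S.residueField s), ⊤) ≃ₐ[Γ(S, U)] p.asIdeal.ResidueField) := by
  have hmem : hU.fromSpec p ∈ U := by
    have := Set.mem_range_self (f := hU.fromSpec) p
    rwa [IsAffineOpen.range_fromSpec] at this
  have hsub : (⊤ : (Spec (S.residueField (hU.fromSpec p))).Opens) ≤
      S.fromSpecResidueField (hU.fromSpec p) ⁻¹ᵁ U := fun z _ => by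
    show S.fromSpecResidueField (hU.fromSpec p) z ∈ U
    rw [Scheme.fromSpecResidueField_apply]
    exact hmem
  refine ⟨hU.fromSpec p, hsub, ?_⟩
  let k : Spec (.of p.asIdeal.ResidueField) ⟶ Spec Γ(S, U) :=
    Spec.map (CommRingCat.ofHom (algebraMap Γ(S, U) p.asIdeal.ResidueField))
  have hk : ∃ e : Spec (S.residueField (hU.fromSpec p)) ≅ Spec (.of p.asIdeal.ResidueField),
      S.fromSpecResidueField (hU.fromSpec p) = e.hom ≫ k ≫ hU.fromSpec := by
    refine ⟨(asIso (Spec.map (hU.fromSpec.residueFieldMap p))).symm ≪≫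
      (Scheme.Spec.mapIso (Scheme.Spec.residueFieldIso Γ(S, U) p).symm.op).symm.symm, ?_⟩
    have h1 := Scheme.Spec.map_residueFieldIso_inv_eq_fromSpecResidueField Γ(S, U) p
    simp only [Iso.trans_hom, Iso.symm_symm_eq, Iso.symm_hom, asIso_inv, Functor.mapIso_hom,
      Iso.op_hom, Scheme.Spec_map, Quiver.Hom.unop_op, Category.assoc, k]
    rw [IsIso.eq_inv_comp, Scheme.Hom.SpecMap_residueFieldMap_fromSpecResidueField]
    rw [← h1]
    simp only [Category.assoc, Spec.map_comp]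
    try rfl
  obtain ⟨e, he⟩ := hk
  let θ : CommRingCat.of p.asIdeal.ResidueField ≅ Γ(Spec (S.residueField (hU.fromSpec p)), ⊤) :=
    (Scheme.ΓSpecIso (.of p.asIdeal.ResidueField)).symm ≪≫ Scheme.Γ.mapIso e.op
  have hθ : ∀ h, (S.fromSpecResidueField (hU.fromSpec p)).appLE U ⊤ h =
      CommRingCat.ofHom (algebraMap Γ(S, U) p.asIdeal.ResidueField) ≫ θ.hom := by
    intro h
    have hi : (⊤ : (Spec Γ(S, U)).Opens) ≤ hU.fromSpec ⁻¹ᵁ U := by rw [hU.fromSpec_preimage_self]
    have h2 : (S.fromSpecResidueField (hU.fromSpec p)).appLE U ⊤ h =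
        hU.fromSpec.appLE U ⊤ hi ≫ k.appLE ⊤ ⊤ le_top ≫ e.hom.appLE ⊤ ⊤ le_top := by
      rw [Scheme.Hom.appLE_comp_appLE, Scheme.Hom.appLE_comp_appLE]
      simp only [he, Category.assoc]
    rw [h2]
    have h3 : hU.fromSpec.appLE U ⊤ hi = (Scheme.ΓSpecIso Γ(S, U)).inv := by
      simp [Scheme.Hom.appLE, hU.fromSpec_app_self, ← Functor.map_comp]
    rw [h3]
    simp [θ, k, Scheme.Hom.appLE, Scheme.ΓSpecIso_inv_naturality_assoc]
    rfl
  letI := ((S.fromSpecResidueField (hU.fromSpec p)).appLE U ⊤ hsub).hom.toAlgebra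
  constructor
  refine (AlgEquiv.ofRingEquiv (f := θ.commRingCatIsoToRingEquiv) fun r => ?_).symm
  exact (congr($(hθ _) r)).symm

/-- Dominance of the fibres gives the condition at every prime of every chart. -/
theorem bcInj_of_fibres_sd {X S : Scheme.{u}} {ι : Type u} {Z : ι → Scheme.{u}} (p : X ⟶ S)
    (f : ∀ i, Z i ⟶ X) (h : ∀ s : S, SD (pbFam p (S.fromSpecResidueField s) f))
    {U : S.Opens} {V : X.Opens} (hU : IsAffineOpen U) (hV : IsAffineOpen V) (eV : V ≤ p ⁻¹ᵁ U)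
    (q : Ideal Γ(S, U)) [q.IsPrime] :
    letI := (p.appLE U V eV).hom.toAlgebra
    letI : ∀ x : Σ i, Chart f V i, Algebra Γ(X, V) Γ(Z x.1, x.2.1) :=
      fun x => ((f x.1).appLE V x.2.1 x.2.2.2).hom.toAlgebra
    BCInj (fun x : Σ i, Chart f V i => Algebra.linearMap Γ(X, V) Γ(Z x.1, x.2.1))
      (Γ(X, V) ⊗[Γ(S, U)] q.ResidueField) := by
  letI := (p.appLE U V eV).hom.toAlgebra
  letI : ∀ x : Σ i, Chart f V i, Algebra Γ(X, V) Γ(Z x.1, x.2.1) :=
    fun x => ((f x.1).appLE V x.2.1 x.2.2.2).hom.toAlgebra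
  obtain ⟨s, hs, ⟨e⟩⟩ := exists_residue_equiv hU ⟨q, inferInstance⟩
  letI := ((S.fromSpecResidueField s).appLE U ⊤ hs).hom.toAlgebra
  have hc := chartInj_of_sd p (S.fromSpecResidueField s) f (h s) hU hV (isAffineOpen_top _) eV hs
  exact BCInj.of_algEquiv (Algebra.TensorProduct.congr AlgEquiv.refl e) hc

end Groth.Agent.Lib.SchDom
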