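import Groth.Agent.Lib.SchDom.Dense
import Groth.Agent.Lib.QCoh.Localizing
import Groth.Agent.Lib.CechRes.PullSec
import Groth.Agent.Lib.SchDom.Fibre

/-!
# Density of an open for a quasi-coherent module, on affine charts
-/

set_option autoImplicit false
set_option linter.style.haveILetI false

universe u

open CategoryTheory Limits AlgebraicGeometry TensorProduct
open Groth.Agent.Lib.QCoh.Localizing

namespace Groth.Agent.Lib.SchDom

variable {X : Scheme.{u}} (M : X.Modules)

theorem Dense.transfer {T T' : Type u} [CommRing T] [CommRing T'] {W W' : Type u} [AddCommGroup W]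
    [Module T W] [AddCommGroup W'] [Module T' W'] {J : Set T} {J' : Set T'} (σ : T' →+* T) (hJ : ∀ j ∈ J, ∃ j' ∈ J', σ j' = j)
    (e : W' →+ W) (he : Function.Injective e) (hsmul : ∀ g x, e (g • x) = σ g • e x) (h : Dense J W) :
    Dense J' W' := by
  intro g x hx
  obtain ⟨n, hn⟩ := h (σ g) (e x) fun j hj => by
    obtain ⟨j', hj', rfl⟩ := hJ j hj
    obtain ⟨n, hn⟩ := hx j' hj'
    exact ⟨n, by rw [← map_mul, ← map_pow, ← hsmul, hn, map_zero]⟩
  exact ⟨n, he (by rw [hsmul, map_pow, hn, map_zero])⟩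

/-- Density on the charts of a cover gives injectivity of restriction to `U`. -/
theorem injective_res_of_dense [M.IsQuasicoherent] (U : X.Opens)
    (h : ∀ x : X, ∃ (V : X.Opens), IsAffineOpen V ∧ x ∈ V ∧ ∃ J : Set Γ(X, V),
      (∀ j ∈ J, X.basicOpen j ≤ U) ∧ Dense J Γ(M, V)) (W : X.Opens) :
    Function.Injective (M.presheaf.map (homOfLE (inf_le_left : W ⊓ U ≤ W)).op) := by
  rw [injective_iff_map_eq_zero]
  intro t ht
  replace ht : res M (inf_le_left : W ⊓ U ≤ W) t = 0 := ht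
  refine TopCat.Sheaf.eq_of_locally_eq' (⟨M.presheaf, M.isSheaf⟩ : TopCat.Sheaf Ab X)
    (fun D : {D : X.Opens // D ≤ W ∧ ∀ hD : D ≤ W, res M hD t = 0} => D.1) _
    (fun D => homOfLE D.2.1) ?_ _ _ fun D => Eq.trans (D.2.2 D.2.1) (map_zero _).symm
  intro x hx
  obtain ⟨V, hV, hxV, J, hJU, hdense⟩ := h x
  obtain ⟨g, hgW, hxg⟩ := hV.exists_basicOpen_le ⟨x, hx⟩ hxV
  refine TopologicalSpace.Opens.mem_iSup.2 ⟨⟨X.basicOpen g, hgW, fun hD => ?_⟩, hxg⟩
  obtain ⟨n, a, ha⟩ := (localizes_of_isAffineOpen M hV g).ext' (res M hD t)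
  obtain ⟨m, hm⟩ := hdense g a fun j hj => by
    refine (localizes_of_isAffineOpen M hV (j * g)).sep a ?_
    have hle : X.basicOpen (j * g) ≤ X.basicOpen g := (Scheme.basicOpen_mul X j g).le.trans inf_le_right
    have hle' : X.basicOpen (j * g) ≤ W ⊓ U :=
      le_inf (hle.trans hD) (((Scheme.basicOpen_mul X j g).le.trans inf_le_left).trans (hJU j hj))
    rw [← res_res (X.basicOpen_le g) hle, ha, res_smul, res_res, ← res_res inf_le_left hle', ht, map_zero,
      smul_zero]
  have h1 := congrArg (res M (X.basicOpen_le g)) hm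
  rw [res_smul, map_zero, ha, map_pow, ← mul_smul, ← pow_add] at h1
  have hu : IsUnit (resR (X.basicOpen_le g) g) := RingedSpace.isUnit_res_basicOpen _ g
  exact (hu.pow (m + n)).smul_eq_zero.1 h1

/-- Injectivity of restriction to `U` gives density on every chart. -/
theorem dense_of_injective_res [M.IsQuasicoherent] (U : X.Opens)
    (h : ∀ W : X.Opens, Function.Injective (M.presheaf.map (homOfLE (inf_le_left : W ⊓ U ≤ W)).op))
    {V : X.Opens} (hV : IsAffineOpen V) {J : Set Γ(X, V)} (hJ : V ⊓ U ≤ ⨆ j ∈ J, X.basicOpen j) :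
    Dense J Γ(M, V) := by
  intro g a ha
  refine (localizes_of_isAffineOpen M hV g).sep a (h (X.basicOpen g) ?_)
  rw [map_zero]
  refine TopCat.Sheaf.eq_of_locally_eq' (⟨M.presheaf, M.isSheaf⟩ : TopCat.Sheaf Ab X)
    (fun j : J => (X.basicOpen g ⊓ U) ⊓ X.basicOpen j.1) _ (fun j => homOfLE inf_le_left) ?_ _ _ fun j => ?_
  · intro x hx
    have := hJ ⟨X.basicOpen_le g hx.1, hx.2⟩
    simp only [TopologicalSpace.Opens.mem_iSup] at this
    obtain ⟨j, hj, hxj⟩ := this
    exact TopologicalSpace.Opens.mem_iSup.2 ⟨⟨j, hj⟩, hx, hxj⟩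
  · refine Eq.trans ?_ (map_zero _).symm
    have hle : (X.basicOpen g ⊓ U) ⊓ X.basicOpen j.1 ≤ X.basicOpen (j.1 * g) := by
      rw [Scheme.basicOpen_mul]
      exact le_inf inf_le_right (inf_le_left.trans inf_le_left)
    obtain ⟨n, hn⟩ := ha j.1 j.2
    show res M inf_le_left (res M inf_le_left (res M (X.basicOpen_le g) a)) = 0
    rw [res_res, res_res, ← res_res (X.basicOpen_le (j.1 * g)) hle]
    have h1 := congrArg (res M (X.basicOpen_le (j.1 * g))) hn
    rw [res_smul, map_zero, map_pow] at h1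
    have hu : IsUnit (resR (X.basicOpen_le (j.1 * g)) (j.1 * g)) :=
      RingedSpace.isUnit_res_basicOpen _ (j.1 * g)
    rw [(hu.pow n).smul_eq_zero.1 h1, map_zero]

variable {S S' : Scheme.{u}}

/-- The functions with basic open inside `U`. -/
def inside (U : X.Opens) (V : X.Opens) : Set Γ(X, V) := {j | X.basicOpen j ≤ U}

theorem inf_le_iSup_inside (U : X.Opens) {V : X.Opens} (hV : IsAffineOpen V) :
    V ⊓ U ≤ ⨆ j ∈ inside U V, X.basicOpen j := by
  intro x hx
  obtain ⟨j, hj, hxj⟩ := hV.exists_basicOpen_le ⟨x, hx.2⟩ hx.1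
  simp only [TopologicalSpace.Opens.mem_iSup]
  exact ⟨j, hj, hxj⟩

/-- Density of the base change of `U` on one chart. -/
def ChartDense (p : X ⟶ S) (g : S' ⟶ S) (U : X.Opens) {US : S.Opens} {V : X.Opens} {U' : S'.Opens}
    (eV : V ≤ p ⁻¹ᵁ US) (eU : U' ≤ g ⁻¹ᵁ US) : Prop :=
  letI := (p.appLE US V eV).hom.toAlgebra
  letI := (g.appLE US U' eU).hom.toAlgebra
  Dense (algebraMap Γ(X, V) (Γ(X, V) ⊗[Γ(S, US)] Γ(S', U')) '' inside U V)
    ((Γ(X, V) ⊗[Γ(S, US)] Γ(S', U')) ⊗[Γ(X, V)] Γ(M, V))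

theorem chartDense_iff [M.IsQuasicoherent] (p : X ⟶ S) (g : S' ⟶ S) (U : X.Opens) {US : S.Opens}
    {V : X.Opens} {U' : S'.Opens} (hUS : IsAffineOpen US) (hV : IsAffineOpen V) (hU' : IsAffineOpen U')
    (eV : V ≤ p ⁻¹ᵁ US) (eU : U' ≤ g ⁻¹ᵁ US) :
    ChartDense M p g U eV eU ↔
      Dense ((pullback.fst p g).appLE V (pullback.fst p g ⁻¹ᵁ V ⊓ pullback.snd p g ⁻¹ᵁ U') inf_le_left '' inside U V)
        Γ((Scheme.Modules.pullback (pullback.fst p g)).obj M,
          pullback.fst p g ⁻¹ᵁ V ⊓ pullback.snd p g ⁻¹ᵁ U') := by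
  unfold ChartDense
  letI := (p.appLE US V eV).hom.toAlgebra
  letI := (g.appLE US U' eU).hom.toAlgebra
  set O := pullback.fst p g ⁻¹ᵁ V ⊓ pullback.snd p g ⁻¹ᵁ U' with hOdef
  obtain ⟨hO, e, he⟩ : IsAffineOpen O ∧ ∃ e : Γ(X, V) ⊗[Γ(S, US)] Γ(S', U') ≃+* Γ(pullback p g, O),
      ∀ a b, e (a ⊗ₜ b) = (pullback.fst p g).appLE V O inf_le_left a * (pullback.snd p g).appLE U' O inf_le_right b :=
    exists_chartEquiv (IsPullback.of_hasPullback p g) hUS hV hU' eV eU
  let T := Γ(X, V) ⊗[Γ(S, US)] Γ(S', U')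
  have hb := CechRes.PullSec.isBaseChange_mu (pullback.fst p g) M hV hO inf_le_left
  letI : Algebra Γ(X, V) Γ(pullback p g, O) := ((pullback.fst p g).appLE V O inf_le_left).hom.toAlgebra
  letI : Module Γ(X, V) Γ((Scheme.Modules.pullback (pullback.fst p g)).obj M, O) :=
    Module.compHom _ ((pullback.fst p g).appLE V O inf_le_left).hom
  haveI : IsScalarTower Γ(X, V) Γ(pullback p g, O) Γ((Scheme.Modules.pullback (pullback.fst p g)).obj M, O) :=
    IsScalarTower.of_algebraMap_smul fun _ _ => rfl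
  let eA : T ≃ₐ[Γ(X, V)] Γ(pullback p g, O) := AlgEquiv.ofRingEquiv (f := e) fun a => by
    rw [Algebra.TensorProduct.algebraMap_apply, he, map_one, mul_one]
    rfl
  let Ψ : T ⊗[Γ(X, V)] Γ(M, V) ≃+ Γ((Scheme.Modules.pullback (pullback.fst p g)).obj M, O) :=
    (TensorProduct.congr eA.toLinearEquiv (LinearEquiv.refl Γ(X, V) Γ(M, V))).toAddEquiv.trans
      hb.equiv.toAddEquiv
  have hΨ : ∀ t x, Ψ (t • x) = e t • Ψ x := by
    intro t x
    show hb.equiv ((TensorProduct.congr eA.toLinearEquiv (LinearEquiv.refl _ _)) (t • x)) =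
      e t • hb.equiv ((TensorProduct.congr eA.toLinearEquiv (LinearEquiv.refl _ _)) x)
    rw [← map_smul]
    congr 1
    induction x using TensorProduct.induction_on with
    | zero => simp
    | tmul s m => simp [TensorProduct.smul_tmul', eA]
    | add a b ha hb => simp only [smul_add, map_add, ha, hb]
  have hcomm : ∀ a, e (algebraMap Γ(X, V) T a) = (pullback.fst p g).appLE V O inf_le_left a :=
    eA.commutes
  constructor
  · refine Dense.transfer e.symm.toRingHom ?_ Ψ.symm.toAddMonoidHom Ψ.symm.injective fun t x => ?_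
    · rintro _ ⟨a, ha, rfl⟩
      exact ⟨_, ⟨a, ha, rfl⟩, e.symm_apply_eq.2 (hcomm a).symm⟩
    · show Ψ.symm (t • x) = e.symm t • Ψ.symm x
      rw [AddEquiv.symm_apply_eq, hΨ, e.apply_symm_apply, Ψ.apply_symm_apply]
  · refine Dense.transfer e.toRingHom ?_ Ψ.toAddMonoidHom Ψ.injective fun t x => hΨ t x
    rintro _ ⟨a, ha, rfl⟩
    exact ⟨_, ⟨a, ha, rfl⟩, hcomm a⟩

theorem chartDense_of_injective [M.IsQuasicoherent] (p : X ⟶ S) (g : S' ⟶ S) (U : X.Opens)
    (h : ∀ W : (pullback p g).Opens, Function.Injective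
      (((Scheme.Modules.pullback (pullback.fst p g)).obj M).presheaf.map
        (homOfLE (inf_le_left : W ⊓ (pullback.fst p g) ⁻¹ᵁ U ≤ W)).op))
    {US : S.Opens} {V : X.Opens} {U' : S'.Opens} (hUS : IsAffineOpen US) (hV : IsAffineOpen V)
    (hU' : IsAffineOpen U') (eV : V ≤ p ⁻¹ᵁ US) (eU : U' ≤ g ⁻¹ᵁ US) : ChartDense M p g U eV eU := by
  haveI := QCoh.Pullback.isQCoh_pullback (pullback.fst p g) M
  obtain ⟨hO, -⟩ := exists_chartEquiv (IsPullback.of_hasPullback p g) hUS hV hU' eV eU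
  rw [chartDense_iff M p g U hUS hV hU' eV eU]
  refine dense_of_injective_res _ _ h hO fun y hy => ?_
  have := inf_le_iSup_inside U hV (show pullback.fst p g y ∈ V ⊓ U from ⟨hy.1.1, hy.2⟩)
  simp only [TopologicalSpace.Opens.mem_iSup] at this ⊢
  obtain ⟨j, hj, hyj⟩ := this
  refine ⟨_, ⟨j, hj, rfl⟩, ?_⟩
  rw [Scheme.basicOpen_appLE]
  exact ⟨hy.1, hyj⟩

theorem injective_of_chartDense [M.IsQuasicoherent] (p : X ⟶ S) (g : S' ⟶ S) (U : X.Opens)
    (h : ∀ x : X, ∃ (US : S.Opens) (V : X.Opens), IsAffineOpen US ∧ IsAffineOpen V ∧ x ∈ V ∧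
      ∃ eV : V ≤ p ⁻¹ᵁ US, ∀ (U' : S'.Opens), IsAffineOpen U' → ∀ eU : U' ≤ g ⁻¹ᵁ US, ChartDense M p g U eV eU)
    (W : (pullback p g).Opens) :
    Function.Injective (((Scheme.Modules.pullback (pullback.fst p g)).obj M).presheaf.map
      (homOfLE (inf_le_left : W ⊓ (pullback.fst p g) ⁻¹ᵁ U ≤ W)).op) := by
  haveI := QCoh.Pullback.isQCoh_pullback (pullback.fst p g) M
  refine injective_res_of_dense _ _ (fun y => ?_) W
  obtain ⟨US, V, hUS, hV, hyV, eV, hchart⟩ := h (pullback.fst p g y)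
  obtain ⟨U', hU', hyU', eU⟩ := exists_isAffineOpen_mem_and_subset (x := pullback.snd p g y)
    (U := g ⁻¹ᵁ US) (by
      show g (pullback.snd p g y) ∈ US
      rw [← Scheme.Hom.comp_apply, ← pullback.condition, Scheme.Hom.comp_apply]
      exact eV hyV)
  obtain ⟨hO, -⟩ := exists_chartEquiv (IsPullback.of_hasPullback p g) hUS hV hU' eV eU
  refine ⟨_, hO, ⟨hyV, hyU'⟩, _, ?_, (chartDense_iff M p g U hUS hV hU' eV eU).1 (hchart U' hU' eU)⟩
  rintro _ ⟨j, hj, rfl⟩
  rw [Scheme.basicOpen_appLE]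
  exact inf_le_right.trans ((pullback.fst p g).preimage_mono hj)

theorem flat_tensor_left {R A : Type u} [CommRing R] [CommRing A] [Algebra R A] (L N : Type u) [AddCommGroup L]
    [Module A L] [Module R L] [IsScalarTower R A L] [Module.Flat A L] [AddCommGroup N] [Module A N] [Module R N]
    [IsScalarTower R A N] [Module.Flat R N] : Module.Flat R (L ⊗[A] N) := by
  rw [Module.Flat.iff_lTensor_preserves_injective_linearMap]
  intro P Q _ _ _ _ φ hφ
  have h1 : Function.Injective ((AlgebraTensorModule.map (LinearMap.id : N →ₗ[A] N) φ).lTensor L) :=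
    Module.Flat.lTensor_preserves_injective_linearMap _
      (Module.Flat.lTensor_preserves_injective_linearMap (M := N) φ hφ)
  have h2 : ∀ x, AlgebraTensorModule.assoc R A A L N Q (φ.lTensor (L ⊗[A] N) x) =
      (AlgebraTensorModule.map (LinearMap.id : N →ₗ[A] N) φ).lTensor L (AlgebraTensorModule.assoc R A A L N P x) := by
    intro x
    induction x using TensorProduct.induction_on with
    | zero => simp
    | add a b ha hb => simp only [map_add, ha, hb]
    | tmul y z =>
      induction y using TensorProduct.induction_on with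
      | zero => simp
      | add a b ha hb => simp only [TensorProduct.add_tmul, map_add, ha, hb]
      | tmul l n => simp
  intro x y hxy
  have h3 := congrArg (AlgebraTensorModule.assoc R A A L N Q) hxy
  rw [h2, h2] at h3
  exact (AlgebraTensorModule.assoc R A A L N P).injective (h1 h3)

/-- Fibrewise density of an open for a flat module of finite presentation is universal. -/
theorem univ_injective_of_fibres [M.IsQuasicoherent] (p : X ⟶ S) [LocallyOfFinitePresentation p]
    (U : X.Opens)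
    (hfp : ∀ V : X.Opens, IsAffineOpen V → Module.FinitePresentation Γ(X, V) Γ(M, V))
    (hflat : ∀ (US : S.Opens) (V : X.Opens) (eV : V ≤ p ⁻¹ᵁ US), IsAffineOpen US → IsAffineOpen V →
      letI := Module.compHom Γ(M, V) (p.appLE US V eV).hom
      Module.Flat Γ(S, US) Γ(M, V))
    (hfib : ∀ (s : S) (W : (pullback p (S.fromSpecResidueField s)).Opens), Function.Injective
      (((Scheme.Modules.pullback (pullback.fst p (S.fromSpecResidueField s))).obj M).presheaf.map
        (homOfLE (inf_le_left : W ⊓ (pullback.fst p (S.fromSpecResidueField s)) ⁻¹ᵁ U ≤ W)).op))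
    (g : S' ⟶ S) (W : (pullback p g).Opens) :
    Function.Injective (((Scheme.Modules.pullback (pullback.fst p g)).obj M).presheaf.map
      (homOfLE (inf_le_left : W ⊓ (pullback.fst p g) ⁻¹ᵁ U ≤ W)).op) := by
  refine injective_of_chartDense M p g U (fun x => ?_) W
  obtain ⟨US, hUS, hxS, -⟩ := exists_isAffineOpen_mem_and_subset (x := p x) (U := ⊤) trivial
  obtain ⟨V, hV, hxV, eV⟩ := exists_isAffineOpen_mem_and_subset (x := x) (U := p ⁻¹ᵁ US) hxS
  refine ⟨US, V, hUS, hV, hxV, eV, fun U' hU' eU => ?_⟩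
  unfold ChartDense
  letI := (p.appLE US V eV).hom.toAlgebra
  letI := (g.appLE US U' eU).hom.toAlgebra
  letI : Module Γ(S, US) Γ(M, V) := Module.compHom Γ(M, V) (p.appLE US V eV).hom
  haveI : IsScalarTower Γ(S, US) Γ(X, V) Γ(M, V) := IsScalarTower.of_algebraMap_smul fun _ _ => rfl
  haveI : Algebra.FinitePresentation Γ(S, US) Γ(X, V) :=
    HasRingHomProperty.appLE @LocallyOfFinitePresentation p inferInstance ⟨US, hUS⟩ ⟨V, hV⟩ eV
  haveI := hfp V hV
  haveI : Module.Flat Γ(S, US) Γ(M, V) := hflat US V eV hUS hV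
  refine dense_of_fibres (fun q _ => ?_) _ (fun q _ => ?_) Γ(S', U')
  · haveI := flat_tensor_left (R := Γ(S, US)) (A := Γ(X, V)) (Localization.AtPrime q) Γ(M, V)
    exact Module.Flat.of_linearEquiv ((IsLocalizedModule.iso q.primeCompl
      (TensorProduct.mk Γ(X, V) (Localization.AtPrime q) Γ(M, V) 1)).restrictScalars Γ(S, US))
  · obtain ⟨s, hs, ⟨e⟩⟩ := exists_residue_equiv hUS ⟨q, inferInstance⟩
    letI := ((S.fromSpecResidueField s).appLE US ⊤ hs).hom.toAlgebra
    have hc := chartDense_of_injective M p (S.fromSpecResidueField s) U (hfib s) hUS hV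
      (isAffineOpen_top _) eV hs
    let ε := Algebra.TensorProduct.congr (AlgEquiv.refl : Γ(X, V) ≃ₐ[Γ(X, V)] Γ(X, V)) e
    refine Dense.transfer ε.symm.toRingEquiv.toRingHom ?_
      (ε.symm.toLinearMap.rTensor Γ(M, V)).toAddMonoidHom (LinearEquiv.rTensor _ ε.symm.toLinearEquiv).injective
      (fun t x => ?_) hc
    · rintro _ ⟨a, ha, rfl⟩
      exact ⟨_, ⟨a, ha, rfl⟩, ε.symm.commutes a⟩
    · show ε.symm.toLinearMap.rTensor Γ(M, V) (t • x) = ε.symm t • ε.symm.toLinearMap.rTensor Γ(M, V) x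
      induction x using TensorProduct.induction_on with
      | zero => simp
      | tmul y m => simp [TensorProduct.smul_tmul']
      | add a b ha hb => simp only [smul_add, map_add, ha, hb]

end Groth.Agent.Lib.SchDom
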