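import Groth.Agent.Lib.SchDom.Inj
import Groth.Agent.H47.GenericFreeDomain
import Mathlib.LinearAlgebra.DirectSum.Finsupp
import Mathlib.LinearAlgebra.TensorProduct.Pi
import Mathlib.RingTheory.FiniteType
import Mathlib.RingTheory.Localization.InvSubmonoid

/-!
# Schematic dominance is stable under base change over a field
-/

set_option autoImplicit false
set_option linter.style.haveILetI false

universe u

open TensorProduct

namespace Groth.Agent.Lib.SchDom

variable {k : Type u} [Field k]

theorem mem_range_baseChange_torsion {A : Type u} [CommRing A] {T : Type u} [CommRing T] [Algebra A T]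
    [Module.Flat A T] {M : Type u} [AddCommGroup M] [Module A M] [IsNoetherianRing A] (P : Ideal A)
    {x : T ⊗[A] M} (hx : ∀ c ∈ P, algebraMap A T c • x = 0) :
    ∃ z : T ⊗[A] ↥(Submodule.torsionBySet A M (P : Set A)),
      ((Submodule.torsionBySet A M (P : Set A)).subtype.baseChange T) z = x := by
  classical
  obtain ⟨S, hS⟩ := IsNoetherian.noetherian P
  let ρ : M →ₗ[A] (S → M) := LinearMap.pi fun c => (c.1 : A) • LinearMap.id
  have hker : LinearMap.ker ρ = Submodule.torsionBySet A M (P : Set A) := by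
    ext m
    rw [← hS, ← Ideal.span, LinearMap.mem_ker, ← Submodule.torsionBySet_eq_torsionBySet_span]
    simp [ρ, funext_iff, Submodule.mem_torsionBySet_iff]
  have hexact : Function.Exact (Submodule.torsionBySet A M (P : Set A)).subtype ρ := by
    rw [LinearMap.exact_iff, hker, Submodule.range_subtype]
  have hzero : ρ.lTensor T x = 0 := by
    refine (TensorProduct.piRight A A T (fun _ : S => M)).injective ?_
    rw [map_zero]
    funext c
    have h2 : ∀ y : T ⊗[A] M, TensorProduct.piRight A A T (fun _ : S => M) (ρ.lTensor T y) c =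
        algebraMap A T c • y := by
      intro y
      induction y using TensorProduct.induction_on with
      | zero => simp
      | tmul t m => simp [ρ, TensorProduct.smul_tmul', ← Algebra.smul_def]
      | add y w hy hw => simp only [map_add, smul_add, Pi.add_apply, hy, hw]
    rw [h2]
    exact hx c (hS ▸ Submodule.subset_span c.2)
  obtain ⟨z, hz⟩ := (Module.Flat.lTensor_exact T hexact x).1 hzero
  exact ⟨z, hz⟩

theorem exists_pow_smul_eq_tmul {A D : Type u} [CommRing A] [CommRing D] [Algebra A D] (P : Ideal A)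
    (hsurj : Function.Surjective (algebraMap A D)) (g : A) (F : Type u) [CommRing F] [Algebra A F] [Algebra D F]
    [IsScalarTower A D F] [IsLocalization.Away (algebraMap A D g) F] {H : Type u} [AddCommGroup H] [Module A H]
    (c : F ⊗[A] H) : ∃ (n : ℕ) (a : H), algebraMap A F g ^ n • c = (1 : F) ⊗ₜ a := by
  induction c using TensorProduct.induction_on with
  | zero => exact ⟨0, 0, by simp⟩
  | tmul f a =>
    obtain ⟨⟨d, ⟨_, n, rfl⟩⟩, hd⟩ := IsLocalization.surj (Submonoid.powers (algebraMap A D g)) f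
    obtain ⟨d', rfl⟩ := hsurj d
    refine ⟨n, d' • a, ?_⟩
    simp only [map_pow, ← IsScalarTower.algebraMap_apply A D F] at hd
    rw [TensorProduct.tmul_smul, TensorProduct.smul_tmul', TensorProduct.smul_tmul', smul_eq_mul,
      mul_comm, hd, Algebra.smul_def, mul_one]
  | add c e hc he =>
    obtain ⟨n, a, hn⟩ := hc
    obtain ⟨m, b, hm⟩ := he
    refine ⟨n + m, g ^ m • a + g ^ n • b, ?_⟩
    rw [smul_add, TensorProduct.tmul_add, TensorProduct.tmul_smul, TensorProduct.tmul_smul, ← hn, ← hm,
      ← algebraMap_smul F (g ^ m), ← algebraMap_smul F (g ^ n), map_pow, map_pow, ← mul_smul, ← mul_smul,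
      ← pow_add, ← pow_add, add_comm m n]

theorem core {A : Type u} [CommRing A] [IsNoetherianRing A]
    {M : Type u} [AddCommGroup M] [Module A M] [Module.Finite A M]
    {ι : Type u} {N : ι → Type u} [∀ i, AddCommGroup (N i)] [∀ i, Module A (N i)]
    (u : ∀ i, M →ₗ[A] N i) (h : InjLoc u) (T : Type u) [CommRing T] [Algebra A T] [Algebra.FiniteType A T]
    [Module.Flat A T] : BCInj u T := by
  haveI : IsNoetherianRing T := Algebra.FiniteType.isNoetherianRing A T
  by_contra hcon
  obtain ⟨g, x, Q, hQ, hgQ, hann, hcond⟩ := exists_prime_of_not hcon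
  let P : Ideal A := Q.comap (algebraMap A T)
  haveI : P.IsPrime := Ideal.IsPrime.comap _
  let H : Submodule A M := Submodule.torsionBySet A M (P : Set A)
  obtain ⟨z, hz⟩ : ∃ z : T ⊗[A] H, H.subtype.baseChange T z = x :=
    mem_range_baseChange_torsion P (x := x) fun c hc => (hann _).2 hc
  have hkill : ∀ j ∈ P, ∀ a : H, j • a = 0 := fun j hj a =>
    Subtype.ext ((Submodule.mem_torsionBySet_iff _ _).1 a.2 ⟨j, hj⟩)
  let q : ∀ i, H →ₗ[A] ↥(LinearMap.range ((u i) ∘ₗ H.subtype)) := fun i => LinearMap.rangeRestrict _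
  have hkillL : ∀ i, ∀ j ∈ P, ∀ b : ↥(LinearMap.range ((u i) ∘ₗ H.subtype)), j • b = 0 := by
    rintro i j hj ⟨_, a, rfl⟩
    exact Subtype.ext (show j • ((u i) ∘ₗ H.subtype) a = 0 by rw [← map_smul, hkill j hj a, map_zero])
  have hcondL : ∀ i, ∃ n : ℕ, g ^ n • (q i).baseChange T z = 0 := fun i => by
    obtain ⟨n, hn⟩ := hcond i
    refine ⟨n, ?_⟩
    have hinj : Function.Injective ((LinearMap.range ((u i) ∘ₗ H.subtype)).subtype.baseChange T) :=
      Module.Flat.lTensor_preserves_injective_linearMap _ (Submodule.injective_subtype _)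
    refine hinj ?_
    rw [map_zero, map_smul, ← LinearMap.comp_apply, ← LinearMap.baseChange_comp,
      show (LinearMap.range ((u i) ∘ₗ H.subtype)).subtype ∘ₗ q i = (u i) ∘ₗ H.subtype from LinearMap.ext fun _ => rfl,
      LinearMap.baseChange_comp, LinearMap.comp_apply]
    exact (congrArg (fun y => g ^ n • (u i).baseChange T y) hz).trans hn
  -- the domain and the generically free algebra over it
  let D := A ⧸ P
  let J : Ideal T := P.map (algebraMap A T)
  letI : Algebra D (T ⧸ J) := Ideal.Quotient.algebraQuotientOfLEComap Ideal.le_comap_map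
  haveI : IsScalarTower A D (T ⧸ J) := IsScalarTower.of_algebraMap_eq fun _ => rfl
  haveI : Algebra.FiniteType A (T ⧸ J) :=
    Algebra.FiniteType.of_surjective (Ideal.Quotient.mkₐ A J) Ideal.Quotient.mk_surjective
  haveI : Algebra.FiniteType D (T ⧸ J) := Algebra.FiniteType.of_restrictScalars_finiteType A D (T ⧸ J)
  let Eh := Localization.Away (Ideal.Quotient.mk J g)
  haveI : Algebra.FiniteType D Eh :=
    Algebra.FiniteType.trans (S := T ⧸ J) ‹_› (IsLocalization.finiteType_of_monoid_fg (Submonoid.powers (Ideal.Quotient.mk J g)) Eh)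
  obtain ⟨g₀, hg₀, hfree⟩ := H47.GenericFreeDomain.gf_of_finiteType (R := D) Eh Eh
  obtain ⟨g₁, rfl⟩ := Ideal.Quotient.mk_surjective g₀
  have hg₁ : g₁ ∉ P := fun hm => hg₀ (Ideal.Quotient.eq_zero_iff_mem.2 hm)
  let Dg := Localization.Away (Ideal.Quotient.mk P g₁)
  let Φ : T →ₐ[A] Eh := IsScalarTower.toAlgHom A T Eh
  have hΦ : ∀ (W : Type u) [AddCommGroup W] [Module A W] (t : T) (w : T ⊗[A] W),
      Φ.toLinearMap.rTensor W (t • w) = Φ t • Φ.toLinearMap.rTensor W w := by
    intro W _ _ t w
    induction w using TensorProduct.induction_on with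
    | zero => simp
    | tmul s a => simp [TensorProduct.smul_tmul']
    | add v w hv hw => simp only [smul_add, map_add, hv, hw]
  have hEh : ∀ i, Φ.toLinearMap.rTensor _ ((q i).baseChange T z) = 0 := fun i => by
    obtain ⟨n, hn⟩ := hcondL i
    have h1 := congrArg (Φ.toLinearMap.rTensor _) hn
    rw [hΦ, map_zero] at h1
    have hu : IsUnit (Φ (g ^ n)) := by
      rw [map_pow]
      exact (IsLocalization.Away.algebraMap_isUnit (S := Eh) (Ideal.Quotient.mk J g)).pow n
    exact (hu.smul_eq_zero).1 h1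
  -- coordinates
  obtain ⟨⟨J₀, b⟩⟩ := Module.Free.exists_basis (R := Dg) (M := Dg ⊗[D] Eh)
  classical
  let coord : ∀ (W : Type u) [AddCommGroup W] [Module A W],
      Dg ⊗[D] (Eh ⊗[A] W) ≃ₗ[A] (J₀ →₀ Dg ⊗[A] W) := fun W _ _ =>
    (AlgebraTensorModule.assoc A D D Dg Eh W).symm.restrictScalars A ≪≫ₗ
      TensorProduct.congr (b.repr.restrictScalars A) (LinearEquiv.refl A W) ≪≫ₗ
        TensorProduct.finsuppLeft A A Dg W J₀
  have hnat : ∀ i (w : Dg ⊗[D] (Eh ⊗[A] H)) (l : J₀),
      coord _ ((AlgebraTensorModule.map (LinearMap.id : Eh →ₗ[D] Eh) (q i)).lTensor Dg w) l =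
        (q i).lTensor Dg (coord _ w l) := by
    intro i w l
    induction w using TensorProduct.induction_on with
    | zero => simp
    | add v w hv hw => simp only [map_add, Finsupp.add_apply, hv, hw]
    | tmul d v =>
      induction v using TensorProduct.induction_on with
      | zero => simp
      | add v w hv hw => simp only [TensorProduct.tmul_add, map_add, Finsupp.add_apply, hv, hw]
      | tmul e a => simp [coord, TensorProduct.finsuppLeft_apply_tmul_apply]
  let w₀ : Dg ⊗[D] (Eh ⊗[A] H) := (1 : Dg) ⊗ₜ Φ.toLinearMap.rTensor H z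
  have hw₀ : coord _ w₀ = 0 := by
    ext l
    rw [Finsupp.zero_apply]
    obtain ⟨n, a, hn⟩ := exists_pow_smul_eq_tmul (D := D) P Ideal.Quotient.mk_surjective g₁ Dg (coord _ w₀ l)
    have hui : ∀ i, ∃ m : ℕ, g₁ ^ m • u i (a : M) = 0 := fun i => by
      have h1 : (q i).lTensor Dg (coord _ w₀ l) = 0 := by
        rw [← hnat]
        have h2 : ∀ y : T ⊗[A] H, (AlgebraTensorModule.map (LinearMap.id : Eh →ₗ[D] Eh) (q i)) (Φ.toLinearMap.rTensor H y) =
            Φ.toLinearMap.rTensor _ ((q i).baseChange T y) := by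
          intro y
          induction y using TensorProduct.induction_on with
          | zero => simp
          | tmul t a => simp
          | add v w hv hw => simp only [map_add, hv, hw]
        simp only [w₀, LinearMap.lTensor_tmul, h2, hEh, TensorProduct.tmul_zero, map_zero, Finsupp.zero_apply]
      have h3 : ((1 : Dg) ⊗ₜ[A] q i a) = 0 := by
        have h4 := congrArg ((q i).baseChange Dg) hn
        rw [map_smul, LinearMap.baseChange_tmul] at h4
        exact h4.symm.trans (by rw [LinearMap.baseChange_eq_ltensor, h1, smul_zero])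
      obtain ⟨t, ⟨m, hm⟩, ht⟩ := killed_loc P (Submonoid.powers (Ideal.Quotient.mk P g₁)) Dg (hkillL i) h3
      refine ⟨m, ?_⟩
      have hmem : g₁ ^ m - t ∈ P := Ideal.Quotient.eq.1 (by rw [map_pow]; exact hm)
      have h5 := hkillL i _ hmem (q i a)
      rw [sub_smul, ht, sub_zero] at h5
      exact congrArg Subtype.val h5
    obtain ⟨m, hm⟩ := h g₁ a hui
    have hu : IsUnit (algebraMap A Dg g₁) := by
      rw [IsScalarTower.algebraMap_apply A D Dg]
      exact IsLocalization.Away.algebraMap_isUnit (S := Dg) (Ideal.Quotient.mk P g₁)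
    refine ((hu.pow n).smul_eq_zero).1 (hn.trans (((hu.pow m).smul_eq_zero).1 ?_))
    rw [← map_pow, algebraMap_smul, ← TensorProduct.tmul_smul,
      show g₁ ^ m • a = 0 from Subtype.ext hm, TensorProduct.tmul_zero]
  have hw0 : w₀ = 0 := (coord _).injective (hw₀.trans (map_zero _).symm)
  obtain ⟨⟨_, m, rfl⟩, hm⟩ := (IsLocalizedModule.eq_zero_iff (Submonoid.powers (Ideal.Quotient.mk P g₁))
    (TensorProduct.mk D Dg (Eh ⊗[A] H) 1)).1 hw0
  have hm' : Φ.toLinearMap.rTensor H (algebraMap A T g₁ ^ m • z) = 0 := by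
    rw [hΦ, map_pow, Φ.commutes, ← map_pow, algebraMap_smul]
    simp only [Submonoid.smul_def] at hm
    rw [← map_pow] at hm
    exact (algebraMap_smul D _ _).symm.trans hm
  have hzero : ((1 : Eh) ⊗ₜ[T] (algebraMap A T g₁ ^ m • z)) = 0 := by
    refine (AlgebraTensorModule.cancelBaseChange A T Eh Eh H).injective ?_
    rw [map_zero, ← hm']
    generalize algebraMap A T g₁ ^ m • z = y
    induction y using TensorProduct.induction_on with
    | zero => simp
    | tmul t a => simp [Φ, Algebra.smul_def]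
    | add v w hv hw => simp only [TensorProduct.tmul_add, map_add, hv, hw]
  have hW : ∀ j ∈ J, ∀ w : T ⊗[A] H, j • w = 0 := by
    intro j hj w
    refine Submodule.span_induction (p := fun j _ => j • w = 0) ?_ (zero_smul _ _)
      (fun a b _ _ ha hb => by rw [add_smul, ha, hb, add_zero])
      (fun a b _ hb => by rw [smul_eq_mul, mul_smul, hb, smul_zero]) hj
    rintro _ ⟨p, hp, rfl⟩
    induction w using TensorProduct.induction_on with
    | zero => rw [smul_zero]
    | tmul t a => rw [algebraMap_smul, ← TensorProduct.tmul_smul, hkill p hp, TensorProduct.tmul_zero]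
    | add v w hv hw => rw [smul_add, hv, hw, add_zero]
  obtain ⟨t, ⟨n, hn⟩, ht⟩ := killed_loc J (Submonoid.powers (Ideal.Quotient.mk J g)) Eh hW hzero
  have hmem : g ^ n - t ∈ J := Ideal.Quotient.eq.1 (by rw [map_pow]; exact hn)
  have h6 : (g ^ n * algebraMap A T g₁ ^ m) • z = 0 := by
    have h6 := (sub_smul (g ^ n) t (algebraMap A T g₁ ^ m • z)).symm.trans (hW _ hmem _)
    rw [ht] at h6
    exact (mul_smul _ _ _).trans ((sub_zero _).symm.trans h6)
  have h7 := congrArg (H.subtype.baseChange T) h6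
  rw [map_smul, hz, map_zero, hann] at h7
  rcases hQ.mem_or_mem h7 with h8 | h8
  · exact hgQ (hQ.mem_of_pow_mem n h8)
  · exact hg₁ (hQ.mem_of_pow_mem m h8)

theorem field_core {A : Type u} [CommRing A] [Algebra k A] [IsNoetherianRing A] [Algebra.FiniteType k A]
    {M : Type u} [AddCommGroup M] [Module A M] [Module.Finite A M]
    {ι : Type u} {N : ι → Type u} [∀ i, AddCommGroup (N i)] [∀ i, Module A (N i)]
    (u : ∀ i, M →ₗ[A] N i) (h : InjLoc u) (B : Type u) [CommRing B] [Algebra k B] [Algebra.FiniteType k B] :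
    BCInj u (A ⊗[k] B) :=
  core u h (A ⊗[k] B)

/-- A family that is injective on every open stays so after any base change over a field. -/
theorem bcInj_of_field {A : Type u} [CommRing A] [Algebra k A] {M : Type u} [AddCommGroup M] [Module A M]
    [Module k M] [IsScalarTower k A M]
    {ι : Type u} {N : ι → Type u} [∀ i, AddCommGroup (N i)] [∀ i, Module A (N i)] [∀ i, Module k (N i)]
    [∀ i, IsScalarTower k A (N i)]
    (u : ∀ i, M →ₗ[A] N i) (h : InjLoc u) (B : Type u) [CommRing B] [Algebra k B] :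
    BCInj u (A ⊗[k] B) := by
  classical
  intro g a hga
  obtain ⟨Sg, hSg⟩ := TensorProduct.exists_finset g
  obtain ⟨Sa, hSa⟩ := TensorProduct.exists_finset a
  choose St hSt using fun t : A ⊗[k] B => TensorProduct.exists_finset t
  let pairs : Finset (A × B) := Sg ∪ Sa.biUnion fun p => St p.1
  let A₀ : Subalgebra k A := Algebra.adjoin k (pairs.image Prod.fst : Set A)
  let B₀ : Subalgebra k B := Algebra.adjoin k (pairs.image Prod.snd : Set B)
  let M₀ : Submodule A₀ M := Submodule.span A₀ (Sa.image Prod.snd : Set M)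
  haveI : Algebra.FiniteType k A₀ := (Subalgebra.fg_iff_finiteType _).1 ⟨_, rfl⟩
  haveI : Algebra.FiniteType k B₀ := (Subalgebra.fg_iff_finiteType _).1 ⟨_, rfl⟩
  haveI : IsNoetherianRing A₀ := Algebra.FiniteType.isNoetherianRing k A₀
  haveI : Module.Finite A₀ M₀ := Module.Finite.iff_fg.2 (Submodule.fg_span (Finset.finite_toSet _))
  let u₀ : ∀ i, M₀ →ₗ[A₀] N i := fun i => (u i).restrictScalars A₀ ∘ₗ M₀.subtype
  have h₀ : InjLoc u₀ := h.transfer u₀ A₀.val.toRingHom M₀.subtype.toAddMonoidHom Subtype.val_injective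
    (fun _ _ => rfl) (fun i => AddMonoidHom.id (N i)) (fun _ _ _ => rfl) (fun _ _ => rfl)
  let ρ := ringMap (R := k) (A := A) (A₀ := A₀) B₀.val
  have hrange : ∀ p ∈ pairs, p.1 ⊗ₜ[k] p.2 ∈ ρ.range := fun p hp =>
    ⟨(⟨p.1, Algebra.subset_adjoin (Finset.mem_image_of_mem _ hp)⟩ : A₀) ⊗ₜ
      (⟨p.2, Algebra.subset_adjoin (Finset.mem_image_of_mem _ hp)⟩ : B₀), rfl⟩
  obtain ⟨g', hg'⟩ : g ∈ ρ.range := by
    rw [hSg]
    exact sum_mem fun p hp => hrange p (Finset.mem_union_left _ hp)
  let e₀ := cmp (A := A) B₀.val (M₀.subtype)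
  obtain ⟨a', ha'⟩ : a ∈ LinearMap.range e₀ := by
    rw [hSa]
    refine sum_mem fun p hp => ?_
    obtain ⟨t', ht'⟩ : p.1 ∈ ρ.range := by
      rw [hSt p.1]
      exact sum_mem fun r hr => hrange r (Finset.mem_union_right _ (Finset.mem_biUnion.2 ⟨p, hp, hr⟩))
    refine ⟨t' ⊗ₜ (⟨p.2, Submodule.subset_span (Finset.mem_image_of_mem _ hp)⟩ : M₀), ?_⟩
    rw [cmp_tmul]
    exact congrArg (· ⊗ₜ[A] p.2) ht'
  have hc₀ := field_core (k := k) u₀ h₀ B₀
  have hθ : ∀ i, Function.Injective (cmp (A := A) B₀.val (LinearMap.id : N i →ₗ[A₀] N i)) := fun i =>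
    cmp_injective _ _ (TensorProduct.map_injective_of_flat_flat _ _ Function.injective_id Subtype.val_injective)
  have hcomm : ∀ i x, cmp (A := A) B₀.val (LinearMap.id : N i →ₗ[A₀] N i) ((u₀ i).baseChange _ x) =
      (u i).baseChange (A ⊗[k] B) (e₀ x) := by
    intro i x
    induction x using TensorProduct.induction_on with
    | zero => simp
    | tmul t m => simp [u₀, e₀, cmp_tmul]
    | add v w hv hw => simp only [map_add, hv, hw]
  obtain ⟨n, hn⟩ := hc₀ g' a' fun i => by
    obtain ⟨n, hn⟩ := hga i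
    refine ⟨n, hθ i ?_⟩
    rw [cmp_smul, map_pow, show ringMap (A := A) B₀.val g' = g from hg', hcomm, show e₀ a' = a from ha', hn, map_zero]
  exact ⟨n, by rw [← show ringMap (A := A) B₀.val g' = g from hg', ← ha', ← map_pow, ← cmp_smul, hn, map_zero]⟩

end Groth.Agent.Lib.SchDom
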