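import Mathlib.RingTheory.Flat.Basic
import Mathlib.RingTheory.Localization.BaseChange
import Mathlib.RingTheory.TensorProduct.Maps
import Mathlib.RingTheory.Noetherian.Basic
import Mathlib.Algebra.Module.Torsion.Basic
import Mathlib.RingTheory.Adjoin.FG

/-!
# Families of maps that are injective on every basic open

`InjLoc u` says that the family `u` stays jointly injective after inverting any element, each
member being tested separately. This is schematic dominance, written on rings and modules.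
-/

set_option autoImplicit false
set_option linter.style.haveILetI false

universe u

open TensorProduct

namespace Groth.Agent.Lib.SchDom

variable {A : Type u} [CommRing A] {M : Type u} [AddCommGroup M] [Module A M]
  {ι : Type u} {N : ι → Type u} [∀ i, AddCommGroup (N i)] [∀ i, Module A (N i)]

/-- Joint injectivity on every basic open, member by member. -/
def InjLoc (u : ∀ i, M →ₗ[A] N i) : Prop :=
  ∀ (g : A) (a : M), (∀ i, ∃ n : ℕ, g ^ n • u i a = 0) → ∃ n : ℕ, g ^ n • a = 0

/-- `InjLoc` after base change to the `A`-algebra `X`. -/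
def BCInj (u : ∀ i, M →ₗ[A] N i) (X : Type u) [CommRing X] [Algebra A X] : Prop :=
  InjLoc fun i => (u i).baseChange X

theorem InjLoc.transfer {u : ∀ i, M →ₗ[A] N i} {A' : Type u} [CommRing A'] {M' : Type u}
    [AddCommGroup M'] [Module A' M'] {N' : ι → Type u} [∀ i, AddCommGroup (N' i)] [∀ i, Module A' (N' i)]
    (u' : ∀ i, M' →ₗ[A'] N' i) (σ : A' →+* A) (e : M' →+ M) (he : Function.Injective e)
    (hσ : ∀ g x, e (g • x) = σ g • e x) (θ : ∀ i, N' i →+ N i)
    (hθ : ∀ i g y, θ i (g • y) = σ g • θ i y) (hcomm : ∀ i x, θ i (u' i x) = u i (e x))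
    (h : InjLoc u) : InjLoc u' := by
  intro g a hg
  have h1 : ∀ i, ∃ n : ℕ, σ g ^ n • u i (e a) = 0 := fun i => by
    obtain ⟨n, hn⟩ := hg i
    exact ⟨n, by rw [← hcomm, ← map_pow, ← hθ, hn, map_zero]⟩
  obtain ⟨n, hn⟩ := h (σ g) (e a) h1
  exact ⟨n, he (by rw [hσ, map_pow, hn, map_zero])⟩

theorem BCInj.of_algEquiv {u : ∀ i, M →ₗ[A] N i} {X Y : Type u} [CommRing X] [Algebra A X]
    [CommRing Y] [Algebra A Y] (ε : X ≃ₐ[A] Y) (h : BCInj u X) : BCInj u Y := by
  have key : ∀ (P : Type u) [AddCommGroup P] [Module A P] (g : Y) (x : Y ⊗[A] P),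
      ε.symm.toLinearMap.rTensor P (g • x) = ε.symm g • ε.symm.toLinearMap.rTensor P x := by
    intro P _ _ g x
    induction x using TensorProduct.induction_on with
    | zero => simp
    | tmul y p => simp [TensorProduct.smul_tmul']
    | add x y hx hy => simp only [smul_add, map_add, hx, hy]
  refine InjLoc.transfer (fun i => (u i).baseChange Y) ε.symm.toRingEquiv.toRingHom
    (ε.symm.toLinearMap.rTensor M).toAddMonoidHom ?_ (fun g x => key M g x)
    (fun i => (ε.symm.toLinearMap.rTensor (N i)).toAddMonoidHom) (fun i g y => key (N i) g y)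
    (fun i x => ?_) h
  · exact (LinearEquiv.rTensor M ε.symm.toLinearEquiv).injective
  · induction x using TensorProduct.induction_on with
    | zero => simp
    | tmul y p => rfl
    | add x y hx hy => simp only [map_add, hx, hy]

theorem bcInj_baseChange_iff {u : ∀ i, M →ₗ[A] N i} (S : Type u) [CommRing S] [Algebra A S]
    (X : Type u) [CommRing X] [Algebra A X] [Algebra S X] [IsScalarTower A S X] :
    BCInj (fun i => (u i).baseChange S) X ↔ BCInj u X := by
  let eM := AlgebraTensorModule.cancelBaseChange A S X X M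
  let eN := fun i => AlgebraTensorModule.cancelBaseChange A S X X (N i)
  have hc : ∀ i x, eN i (((u i).baseChange S).baseChange X x) = (u i).baseChange X (eM x) := by
    intro i x
    induction x using TensorProduct.induction_on with
    | zero => simp
    | add x y hx hy => simp only [map_add, hx, hy]
    | tmul y z =>
      induction z using TensorProduct.induction_on with
      | zero => simp
      | tmul s m => simp [eM, eN]
      | add z w hz hw => simp only [TensorProduct.tmul_add, map_add, hz, hw]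
  refine ⟨fun h => InjLoc.transfer _ (RingHom.id X) eM.symm.toLinearMap.toAddMonoidHom eM.symm.injective
      (fun g x => eM.symm.map_smul g x) (fun i => (eN i).symm.toLinearMap.toAddMonoidHom)
      (fun i g y => (eN i).symm.map_smul g y) (fun i x => ?_) h,
    fun h => InjLoc.transfer _ (RingHom.id X) eM.toLinearMap.toAddMonoidHom eM.injective
      (fun g x => eM.map_smul g x) (fun i => (eN i).toLinearMap.toAddMonoidHom)
      (fun i g y => (eN i).map_smul g y) hc h⟩
  show (eN i).symm _ = _
  rw [LinearEquiv.symm_apply_eq]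
  exact ((hc i (eM.symm x)).trans (by rw [eM.apply_symm_apply])).symm

/-- A vanishing test in a localization of a quotient ring. -/
theorem killed_loc {T : Type u} [CommRing T] (J : Ideal T) (S : Submonoid (T ⧸ J)) (F : Type u)
    [CommRing F] [Algebra T F] [Algebra (T ⧸ J) F] [IsScalarTower T (T ⧸ J) F] [IsLocalization S F]
    {W : Type u} [AddCommGroup W] [Module T W] (hW : ∀ j ∈ J, ∀ w : W, j • w = 0) {z : W}
    (hz : ((1 : F) ⊗ₜ[T] z) = 0) :
    ∃ t : T, Ideal.Quotient.mk J t ∈ S ∧ t • z = 0 := by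
  have htor : Module.IsTorsionBySet T W (J : Set T) := fun w j => hW j.1 j.2 w
  letI := htor.module
  haveI : IsScalarTower T (T ⧸ J) W := htor.isScalarTower
  have h : TensorProduct.mk (T ⧸ J) F W 1 z = 0 := by
    have h' := congrArg (TensorProduct.mapOfCompatibleSMul (T ⧸ J) T T F W) hz
    simpa using h'
  obtain ⟨⟨s, hs⟩, hsz⟩ := (IsLocalizedModule.eq_zero_iff S (TensorProduct.mk (T ⧸ J) F W 1)).1 h
  obtain ⟨t, rfl⟩ := Ideal.Quotient.mk_surjective s
  exact ⟨t, hs, hsz⟩

/-- A failure of `InjLoc` is witnessed by an element with prime annihilator. -/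
theorem exists_prime_of_not [IsNoetherianRing A] {u : ∀ i, M →ₗ[A] N i} (h : ¬ InjLoc u) :
    ∃ (g : A) (x : M) (Q : Ideal A), Q.IsPrime ∧ g ∉ Q ∧ (∀ c : A, c • x = 0 ↔ c ∈ Q) ∧
      ∀ i, ∃ n : ℕ, g ^ n • u i x = 0 := by
  simp only [InjLoc, not_forall] at h
  obtain ⟨g, a, ha, hne⟩ := h
  let col : M → Ideal A := fun y =>
    { carrier := {c | ∃ n : ℕ, g ^ n • c • y = 0}
      zero_mem' := ⟨0, by simp⟩
      add_mem' := fun {c d} hc hd => by
        obtain ⟨n, hn⟩ := hc
        obtain ⟨m, hm⟩ := hd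
        refine ⟨n + m, ?_⟩
        rw [add_smul, smul_add, pow_add, mul_smul, smul_comm (g ^ n) (g ^ m) (c • y), hn, smul_zero,
          zero_add, mul_smul, hm, smul_zero]
      smul_mem' := fun b c hc => by
        obtain ⟨n, hn⟩ := hc
        exact ⟨n, by rw [smul_eq_mul, mul_smul, smul_comm, hn, smul_zero]⟩ }
  let 𝒮 : Set (Ideal A) :=
    {I | ∃ y : M, (∀ i, ∃ n : ℕ, g ^ n • u i y = 0) ∧ 1 ∉ col y ∧ I = col y}
  have hne' : 𝒮.Nonempty := ⟨col a, a, ha, fun ⟨n, hn⟩ => hne ⟨n, by rwa [one_smul] at hn⟩, rfl⟩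
  obtain ⟨_, ⟨y, hy, hy1, rfl⟩, hmax⟩ := set_has_maximal_iff_noetherian.2 inferInstance 𝒮 hne'
  obtain ⟨S, hS⟩ := IsNoetherian.noetherian (col y)
  have hex : ∃ n : ℕ, ∀ c ∈ col y, g ^ n • c • y = 0 := by
    classical
    choose! n hn using fun c (hc : c ∈ col y) => hc
    refine ⟨S.sup n, fun c hc => ?_⟩
    rw [← hS] at hc
    refine Submodule.span_induction (p := fun c _ => g ^ S.sup n • c • y = 0) (fun c hc' => ?_) (by simp)
      (fun c d _ _ h1 h2 => by rw [add_smul, smul_add, h1, h2, add_zero])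
      (fun b c _ h1 => by rw [smul_eq_mul, mul_smul, smul_comm, h1, smul_zero]) hc
    obtain ⟨e, he⟩ := Nat.exists_eq_add_of_le (Finset.le_sup (f := n) hc')
    rw [he, pow_add, mul_comm, mul_smul, hn c (hS ▸ Submodule.subset_span hc'), smul_zero]
  obtain ⟨n, hn⟩ := hex
  have hprime : (col y).IsPrime := by
    refine Ideal.isPrime_iff.2 ⟨fun ht => hy1 (ht ▸ Submodule.mem_top), fun {b c} hbc => ?_⟩
    by_contra hor
    obtain ⟨hb, hc⟩ := not_or.1 hor
    have hmem : col (b • y) ∈ 𝒮 := ⟨b • y, fun i => by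
      obtain ⟨m, hm⟩ := hy i
      exact ⟨m, by rw [map_smul, smul_comm, hm, smul_zero]⟩,
      fun ⟨m, hm⟩ => hb ⟨m, by rwa [one_smul] at hm⟩, rfl⟩
    have hle : col y ≤ col (b • y) := fun d ⟨m, hm⟩ =>
      ⟨m, by rw [smul_comm d b, smul_comm _ b, hm, smul_zero]⟩
    have heq : col (b • y) = col y := by
      by_contra hne''
      exact hmax _ hmem (lt_of_le_of_ne hle (Ne.symm hne''))
    refine hc (heq ▸ ?_)
    obtain ⟨m, hm⟩ := hbc
    exact ⟨m, by rwa [← mul_smul c b, mul_comm c b]⟩
  have hg : g ∉ col y := fun ⟨m, hm⟩ => hy1 ⟨m + 1, by rwa [one_smul, pow_succ, mul_smul]⟩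
  refine ⟨g, g ^ n • y, col y, hprime, hg, fun c => ⟨fun hc => ⟨n, by rwa [smul_comm] at hc⟩,
    fun hc => by rw [smul_comm]; exact hn c hc⟩, fun i => ?_⟩
  obtain ⟨m, hm⟩ := hy i
  exact ⟨m, by rw [map_smul, smul_comm, hm, smul_zero]⟩

section Compare

variable {R : Type u} [CommRing R] [Algebra R A] [Module R M] [IsScalarTower R A M]

/-- `(A ⊗ B) ⊗_A M` is `M ⊗ B`. -/
noncomputable def swapEq (B : Type u) [CommRing B] [Algebra R B] :
    (A ⊗[R] B) ⊗[A] M ≃ₗ[A] M ⊗[R] B :=
  TensorProduct.comm A (A ⊗[R] B) M ≪≫ₗ AlgebraTensorModule.cancelBaseChange R A A M B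

@[simp]
theorem swapEq_tmul (B : Type u) [CommRing B] [Algebra R B] (a : A) (b : B) (m : M) :
    swapEq B ((a ⊗ₜ[R] b) ⊗ₜ[A] m) = (a • m) ⊗ₜ[R] b := by
  simp [swapEq, TensorProduct.smul_tmul']

theorem swapEq_natural {M' : Type u} [AddCommGroup M'] [Module A M'] [Module R M'] [IsScalarTower R A M']
    (B : Type u) [CommRing B] [Algebra R B] (f : M →ₗ[A] M') (x : (A ⊗[R] B) ⊗[A] M) :
    swapEq B (f.baseChange (A ⊗[R] B) x) = AlgebraTensorModule.map f LinearMap.id (swapEq B x) := by
  induction x using TensorProduct.induction_on with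
  | zero => simp
  | add x y hx hy => simp only [map_add, hx, hy]
  | tmul t m =>
    induction t using TensorProduct.induction_on with
    | zero => simp
    | add s t hs ht => simp only [TensorProduct.add_tmul, map_add, hs, ht]
    | tmul a b => simp

end Compare

section Small

variable {R : Type u} [CommRing R] [Algebra R A] {A₀ : Type u} [CommRing A₀] [Algebra R A₀]
  [Algebra A₀ A] [IsScalarTower R A₀ A] {B₀ B : Type u} [CommRing B₀] [CommRing B] [Algebra R B₀]
  [Algebra R B] (β : B₀ →ₐ[R] B)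
  {P₀ P : Type u} [AddCommGroup P₀] [Module A₀ P₀] [Module R P₀] [IsScalarTower R A₀ P₀]
  [AddCommGroup P] [Module A P] [Module R P] [IsScalarTower R A P] [Module A₀ P] [IsScalarTower A₀ A P]
  [IsScalarTower R A₀ P] (j : P₀ →ₗ[A₀] P)

/-- The map of rings from a small system to a big one. -/
noncomputable def ringMap : A₀ ⊗[R] B₀ →ₐ[A₀] A ⊗[R] B :=
  Algebra.TensorProduct.map (Algebra.ofId A₀ A) β

/-- The map of modules from a small system to a big one. -/
noncomputable def cmp : (A₀ ⊗[R] B₀) ⊗[A₀] P₀ →ₗ[A₀] (A ⊗[R] B) ⊗[A] P :=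
  (TensorProduct.mapOfCompatibleSMul A A₀ A₀ (A ⊗[R] B) P) ∘ₗ
    TensorProduct.map (ringMap (A := A) β).toLinearMap j

theorem cmp_tmul (t : A₀ ⊗[R] B₀) (p : P₀) :
    cmp (A := A) β j (t ⊗ₜ p) = ringMap (A := A) β t ⊗ₜ j p := by
  simp [cmp]

theorem cmp_smul (t : A₀ ⊗[R] B₀) (x : (A₀ ⊗[R] B₀) ⊗[A₀] P₀) :
    cmp (A := A) β j (t • x) = ringMap (A := A) β t • cmp (A := A) β j x := by
  induction x using TensorProduct.induction_on with
  | zero => simp
  | tmul s p => rw [TensorProduct.smul_tmul', cmp_tmul, cmp_tmul, TensorProduct.smul_tmul', smul_eq_mul,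
      map_mul, smul_eq_mul]
  | add x y hx hy => simp only [smul_add, map_add, hx, hy]

theorem swapEq_cmp (x : (A₀ ⊗[R] B₀) ⊗[A₀] P₀) :
    swapEq B (cmp (A := A) β j x) = TensorProduct.map (j.restrictScalars R) β.toLinearMap (swapEq B₀ x) := by
  induction x using TensorProduct.induction_on with
  | zero => simp
  | add x y hx hy => simp only [map_add, hx, hy]
  | tmul t m =>
    induction t using TensorProduct.induction_on with
    | zero => simp
    | add s t hs ht => simp only [TensorProduct.add_tmul, map_add, hs, ht]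
    | tmul a b => simp [cmp_tmul, ringMap, Algebra.ofId_apply, algebraMap_smul]

theorem cmp_injective
    (h : Function.Injective (TensorProduct.map (j.restrictScalars R) β.toLinearMap)) :
    Function.Injective (cmp (A := A) β j) := by
  intro x y hxy
  have := congrArg (swapEq B) hxy
  rw [swapEq_cmp, swapEq_cmp] at this
  exact (swapEq B₀).injective (h this)

end Small

end Groth.Agent.Lib.SchDom
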