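import Groth.Agent.Lib.SchDom.Inj
import Mathlib.LinearAlgebra.TensorProduct.Quotient
import Mathlib.LinearAlgebra.FreeModule.Basic
import Mathlib.LinearAlgebra.DirectSum.Finsupp
import Mathlib.RingTheory.Ideal.Quotient.Operations

/-!
# Injectivity on every open from a nilpotent thickening
-/

set_option autoImplicit false
set_option linter.style.haveILetI false

universe u

open TensorProduct

namespace Groth.Agent.Lib.SchDom

variable {R A : Type u} [CommRing R] [CommRing A] [Algebra R A]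
  {M : Type u} [AddCommGroup M] [Module R M] [Module A M] [IsScalarTower R A M]
  {ι : Type u} {N : ι → Type u} [∀ i, AddCommGroup (N i)] [∀ i, Module R (N i)] [∀ i, Module A (N i)]
  [∀ i, IsScalarTower R A (N i)]

/-- Injectivity modulo a nilpotent ideal with free graded pieces gives injectivity. -/
theorem injLoc_of_nilpotent [∀ i, Module.Flat R (N i)] (J : Ideal R) (hJ : IsNilpotent J)
    (hfree : ∀ k : ℕ, Module.Free (R ⧸ J) ((R ⧸ J) ⊗[R] ↥(J ^ k)))
    (u : ∀ i, M →ₗ[A] N i) (h : BCInj u (A ⊗[R] (R ⧸ J))) : InjLoc u := by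
  classical
  intro g x hcond
  suffices hall : ∀ k, ∃ n : ℕ, g ^ n • x ∈ J ^ k • (⊤ : Submodule R M) by
    obtain ⟨K, hK⟩ := hJ
    obtain ⟨n, hn⟩ := hall K
    refine ⟨n, ?_⟩
    rwa [hK, Submodule.zero_eq_bot, Submodule.bot_smul, Submodule.mem_bot] at hn
  intro k
  induction k with
  | zero => exact ⟨0, by simp⟩
  | succ k ih =>
  obtain ⟨s₀, hsx⟩ := ih
  -- a lift to the graded piece
  let V : Submodule R R := J ^ k
  let μ : M ⊗[R] V →ₗ[A] M :=
    (AlgebraTensorModule.rid R A M).toLinearMap ∘ₗ AlgebraTensorModule.map LinearMap.id V.subtype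
  obtain ⟨z, hz⟩ : ∃ z, μ z = g ^ s₀ • x := by
    refine Submodule.smul_induction_on hsx (fun r hr m _ => ⟨m ⊗ₜ (⟨r, hr⟩ : V), by simp [μ]⟩) ?_
    rintro _ _ ⟨a, rfl⟩ ⟨b, rfl⟩
    exact ⟨a + b, map_add _ _ _⟩
  let W : Submodule R V := J • ⊤
  let G := (R ⧸ J) ⊗[R] ↥V
  have hW : W = Submodule.comap V.subtype (J ^ (k + 1) : Ideal R) := by
    ext r
    rw [Submodule.mem_comap, Submodule.mem_smul_top_iff, pow_succ']
    rfl
  let e : G ≃ₗ[R] ↥V ⧸ W := TensorProduct.quotTensorEquivQuotSMul ↥V J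
  let j₀ : (↥V ⧸ W) →ₗ[R] R ⧸ J ^ (k + 1) := W.mapQ _ V.subtype hW.le
  have hj₀ : Function.Injective j₀ := by
    rw [injective_iff_map_eq_zero]
    intro v hv
    obtain ⟨r, rfl⟩ := Submodule.Quotient.mk_surjective _ v
    rw [Submodule.mapQ_apply, Submodule.Quotient.mk_eq_zero] at hv
    rw [Submodule.Quotient.mk_eq_zero, hW]
    exact hv
  let j : G →ₗ[R] R ⧸ J ^ (k + 1) := j₀ ∘ₗ e.toLinearMap
  have hj : Function.Injective j := hj₀.comp e.injective
  let π : M ⊗[R] V →ₗ[A] M ⊗[R] G := AlgebraTensorModule.map LinearMap.id (TensorProduct.mk R (R ⧸ J) V 1)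
  let jM : M ⊗[R] G →ₗ[A] M ⊗[R] (R ⧸ J ^ (k + 1)) := AlgebraTensorModule.map LinearMap.id j
  have hcommM : ∀ y, jM (π y) = μ y ⊗ₜ[R] (Ideal.Quotient.mk (J ^ (k + 1)) 1) := by
    intro y
    induction y using TensorProduct.induction_on with
    | zero => simp
    | tmul m r =>
      have he : e ((1 : R ⧸ J) ⊗ₜ[R] r) = Submodule.Quotient.mk r := by
        show TensorProduct.quotTensorEquivQuotSMul ↥V J (Ideal.Quotient.mk J 1 ⊗ₜ[R] r) = _
        rw [TensorProduct.quotTensorEquivQuotSMul_mk_tmul, one_smul]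
      simp only [jM, π, μ, j, j₀, LinearMap.coe_comp, LinearEquiv.coe_coe, Function.comp_apply,
        AlgebraTensorModule.map_tmul, LinearMap.id_apply, AlgebraTensorModule.rid_tmul, Submodule.subtype_apply]
      show m ⊗ₜ[R] W.mapQ (J ^ (k + 1)) V.subtype _ (e ((1 : R ⧸ J) ⊗ₜ[R] r)) = _
      rw [he, Submodule.mapQ_apply, Submodule.subtype_apply]
      rw [TensorProduct.smul_tmul]
      show m ⊗ₜ[R] (Submodule.Quotient.mk (r : R) : R ⧸ J ^ (k + 1)) = _
      rw [Ideal.Quotient.mk_eq_mk, ← Ideal.Quotient.algebraMap_eq,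
        Algebra.smul_def, map_one, mul_one]
    | add a b ha hb => simp only [map_add, TensorProduct.add_tmul, ha, hb]
  let y := π z
  have hy : ∀ i, ∃ n : ℕ, g ^ n • AlgebraTensorModule.map (u i) (LinearMap.id : G →ₗ[R] G) y = 0 := by
    intro i
    obtain ⟨n, hn⟩ := hcond i
    refine ⟨n, ?_⟩
    let jN : N i ⊗[R] G →ₗ[A] N i ⊗[R] (R ⧸ J ^ (k + 1)) := AlgebraTensorModule.map LinearMap.id j
    have hjN : Function.Injective jN := Module.Flat.lTensor_preserves_injective_linearMap j hj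
    refine hjN ?_
    have h1 : ∀ w : M ⊗[R] G, jN (AlgebraTensorModule.map (u i) LinearMap.id w) =
        AlgebraTensorModule.map (u i) LinearMap.id (jM w) := by
      intro w
      induction w using TensorProduct.induction_on with
      | zero => simp
      | tmul m v => simp [jN, jM]
      | add a b ha hb => simp only [map_add, ha, hb]
    rw [map_zero, map_smul, h1, show jM y = _ from hcommM z, hz, AlgebraTensorModule.map_tmul,
      TensorProduct.smul_tmul', map_smul, smul_comm, hn, smul_zero, TensorProduct.zero_tmul]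
  -- coordinates in the special fibre
  obtain ⟨⟨J₀, b⟩⟩ := (hfree k).exists_basis
  let ψ : G ≃ₗ[R] (J₀ →₀ R ⧸ J) := b.repr.restrictScalars R
  let cM : M ⊗[R] G →ₗ[A] (J₀ →₀ M ⊗[R] (R ⧸ J)) :=
    (TensorProduct.finsuppRight R A M (R ⧸ J) J₀).toLinearMap ∘ₗ AlgebraTensorModule.map LinearMap.id ψ.toLinearMap
  have hcoord : ∀ l, ∃ n : ℕ, g ^ n • cM y l = 0 := by
    intro l
    have hl : ∀ i, ∃ n : ℕ, algebraMap A (A ⊗[R] (R ⧸ J)) g ^ n •
        (u i).baseChange (A ⊗[R] (R ⧸ J)) ((swapEq (R ⧸ J)).symm (cM y l)) = 0 := by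
      intro i
      obtain ⟨n, hn⟩ := hy i
      refine ⟨n, (swapEq (R ⧸ J)).injective ?_⟩
      have h1 : ∀ w : M ⊗[R] G, AlgebraTensorModule.map (u i) (LinearMap.id : (R ⧸ J) →ₗ[R] R ⧸ J) (cM w l) =
          ((TensorProduct.finsuppRight R A (N i) (R ⧸ J) J₀) (AlgebraTensorModule.map (LinearMap.id : N i →ₗ[A] N i) ψ.toLinearMap
            (AlgebraTensorModule.map (u i) (LinearMap.id : G →ₗ[R] G) w))) l := by
        intro w
        induction w using TensorProduct.induction_on with
        | zero => simp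
        | tmul m v => simp [cM]
        | add a b ha hb => simp only [map_add, Finsupp.add_apply, ha, hb]
      rw [map_zero, ← map_pow, algebraMap_smul, map_smul, swapEq_natural, LinearEquiv.apply_symm_apply,
        h1, ← Finsupp.smul_apply, ← map_smul, ← map_smul, hn, map_zero, map_zero, Finsupp.zero_apply]
    obtain ⟨n, hn⟩ := h _ _ hl
    refine ⟨n, (swapEq (R := R) (A := A) (M := M) (R ⧸ J)).symm.injective ?_⟩
    rw [map_smul, map_zero]
    rwa [← map_pow, algebraMap_smul] at hn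
  choose n hn using hcoord
  have hzero : cM (g ^ (cM y).support.sup n • y) = 0 := by
    ext l
    rw [map_smul, Finsupp.smul_apply, Finsupp.zero_apply]
    by_cases hl : l ∈ (cM y).support
    · obtain ⟨e, he⟩ := Nat.exists_eq_add_of_le (Finset.le_sup (f := n) hl)
      rw [he, pow_add, mul_comm, mul_smul, hn l, smul_zero]
    · rw [Finsupp.notMem_support_iff.1 hl, smul_zero]
  have hψ : Function.Injective (AlgebraTensorModule.map (LinearMap.id : M →ₗ[A] M) ψ.toLinearMap) :=
    (LinearEquiv.lTensor M ψ).injective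
  have hzero' : g ^ (cM y).support.sup n • y = 0 := hψ
    (((TensorProduct.finsuppRight R A M (R ⧸ J) J₀).map_eq_zero_iff.1 hzero).trans (map_zero _).symm)
  refine ⟨(cM y).support.sup n + s₀, ?_⟩
  have h4 := congrArg jM hzero'
  rw [map_zero, map_smul, show jM y = _ from hcommM z, hz, TensorProduct.smul_tmul', ← mul_smul,
    ← pow_add] at h4
  have h5 := congrArg (TensorProduct.tensorQuotEquivQuotSMul M (J ^ (k + 1))) h4
  rw [map_zero, TensorProduct.tensorQuotEquivQuotSMul_tmul_mk, one_smul, Submodule.Quotient.mk_eq_zero] at h5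
  exact h5

end Groth.Agent.Lib.SchDom
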