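import Groth.Agent.Lib.SchDom.Universal

/-!
# Schematic dominance in terms of families of ring homomorphisms
-/

set_option autoImplicit false
set_option linter.style.haveILetI false

universe u

open TensorProduct

namespace Groth.Agent.Lib.SchDom

/-- A family of ring maps that is jointly injective on every basic open. -/
def InjHom {A : Type u} [CommRing A] {κ : Type u} {C : κ → Type u} [∀ k, CommRing (C k)]
    (φ : ∀ k, A →+* C k) : Prop :=
  ∀ (g a : A), (∀ k, ∃ n : ℕ, φ k (g ^ n * a) = 0) → ∃ n : ℕ, g ^ n * a = 0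

variable {R A B : Type u} [CommRing R] [CommRing A] [CommRing B] [Algebra R A] [Algebra R B]
  {κ : Type u} {C : κ → Type u} [∀ k, CommRing (C k)] [∀ k, Algebra R (C k)] [∀ k, Algebra A (C k)]
  [∀ k, IsScalarTower R A (C k)]

theorem injLoc_iff_injHom :
    InjLoc (fun k => Algebra.linearMap A (C k)) ↔ InjHom fun k => algebraMap A (C k) := by
  have h : ∀ k (g a : A), g • (algebraMap A (C k) a) = algebraMap A (C k) (g * a) := fun k g a => by
    rw [Algebra.smul_def, map_mul]
  simp only [InjLoc, InjHom, Algebra.linearMap_apply, h, smul_eq_mul]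

/-- The base change of the structure maps. -/
noncomputable def tmap (k : κ) : A ⊗[R] B →ₐ[A] C k ⊗[R] B :=
  Algebra.TensorProduct.map (Algebra.ofId A (C k)) (AlgHom.id R B)

theorem swapEq_smul (k : κ) (t : A ⊗[R] B) (x : (A ⊗[R] B) ⊗[A] C k) :
    swapEq B (t • x) = tmap k t * swapEq B x := by
  induction x using TensorProduct.induction_on with
  | zero => rw [smul_zero, map_zero, mul_zero]
  | add x y hx hy => rw [smul_add, map_add, map_add, mul_add, hx, hy]
  | tmul s c =>
    induction s using TensorProduct.induction_on with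
    | zero => rw [TensorProduct.zero_tmul, smul_zero, map_zero, mul_zero]
    | add s s' hs hs' => rw [TensorProduct.add_tmul, smul_add, map_add, map_add, mul_add, hs, hs']
    | tmul a b =>
      induction t using TensorProduct.induction_on with
      | zero => rw [zero_smul, map_zero, map_zero, zero_mul]
      | add t t' ht ht' => rw [add_smul, map_add, map_add, add_mul, ht, ht']
      | tmul a' b' =>
        simp [tmap, TensorProduct.smul_tmul', Algebra.ofId_apply, Algebra.smul_def, mul_assoc]

theorem bcInj_linearMap_iff :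
    BCInj (fun k => Algebra.linearMap A (C k)) (A ⊗[R] B) ↔
      InjHom fun k => (tmap k : A ⊗[R] B →ₐ[A] C k ⊗[R] B).toRingHom := by
  let e := AlgebraTensorModule.rid A (A ⊗[R] B) (A ⊗[R] B)
  have h : ∀ k (g : A ⊗[R] B) (n : ℕ) (x : (A ⊗[R] B) ⊗[A] A),
      swapEq B (g ^ n • (Algebra.linearMap A (C k)).baseChange (A ⊗[R] B) x) =
        tmap k (g ^ n * e x) := by
    intro k g n x
    rw [swapEq_smul, map_mul]
    congr 1
    induction x using TensorProduct.induction_on with
    | zero => simp
    | add x y hx hy => simp only [map_add, hx, hy]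
    | tmul t a =>
      rw [LinearMap.baseChange_tmul, show e (t ⊗ₜ a) = a • t from by simp [e], map_smul]
      induction t using TensorProduct.induction_on with
      | zero => simp
      | add t t' ht ht' => simp only [TensorProduct.add_tmul, map_add, smul_add, ht, ht']
      | tmul a' b' =>
        simp [tmap, Algebra.ofId_apply, TensorProduct.smul_tmul', Algebra.smul_def, mul_comm]
  constructor
  · intro hB g a ha
    obtain ⟨n, hn⟩ := hB g (e.symm a) fun k => by
      obtain ⟨n, hn⟩ := ha k
      exact ⟨n, (swapEq B).injective (by rw [h, map_zero, e.apply_symm_apply]; exact hn)⟩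
    exact ⟨n, by rw [← smul_eq_mul, ← e.apply_symm_apply a, ← map_smul, hn, map_zero]⟩
  · intro hB g a ha
    obtain ⟨n, hn⟩ := hB g (e a) fun k => by
      obtain ⟨n, hn⟩ := ha k
      exact ⟨n, ((h k g n a).symm.trans (by rw [hn, map_zero]) :)⟩
    exact ⟨n, e.injective (by rw [map_smul, smul_eq_mul, hn, map_zero])⟩

/-- Transfer along an isomorphism of the whole family. -/
theorem InjHom.of_equiv {T T' : Type u} [CommRing T] [CommRing T'] {D D' : κ → Type u}
    [∀ k, CommRing (D k)] [∀ k, CommRing (D' k)] {φ : ∀ k, T →+* D k} {φ' : ∀ k, T' →+* D' k}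
    (e : T ≃+* T') (θ : ∀ k, D k →+* D' k) (hθ : ∀ k, Function.Injective (θ k))
    (hcomm : ∀ k x, θ k (φ k x) = φ' k (e x))
    (h : InjHom φ) : InjHom φ' := by
  intro g a ha
  obtain ⟨n, hn⟩ := h (e.symm g) (e.symm a) fun k => by
    obtain ⟨n, hn⟩ := ha k
    refine ⟨n, hθ k ?_⟩
    rw [hcomm, map_zero, map_mul, map_pow, e.apply_symm_apply, e.apply_symm_apply, hn]
  exact ⟨n, e.symm.injective (by rw [map_mul, map_pow, hn, map_zero])⟩

end Groth.Agent.Lib.SchDom
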