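import Groth.Agent.Lib.SchDom.Fibre
import Groth.Agent.Lib.QCoh.Localizing
import Groth.Agent.Lib.CechRes.PullSec

/-!
# Separating families of homomorphisms of quasi-coherent modules
-/

set_option autoImplicit false
set_option linter.style.haveILetI false

universe u

open CategoryTheory Limits AlgebraicGeometry TensorProduct
open Groth.Agent.Lib.QCoh.Localizing

namespace Groth.Agent.Lib.SchDom

variable {X : Scheme.{u}} {M : X.Modules} {ι : Type u} {N : ι → X.Modules}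

/-- A section killed by every member of the family is zero. -/
def Sep (v : ∀ i, M ⟶ N i) : Prop :=
  ∀ (V : X.Opens) (t : Γ(M, V)), (∀ i, (v i).app V t = 0) → t = 0

/-- The map on sections, linear over the functions. -/
noncomputable def appₗ {P : X.Modules} (φ : M ⟶ P) (V : X.Opens) : Γ(M, V) →ₗ[Γ(X, V)] Γ(P, V) where
  toFun := φ.app V
  map_add' := map_add _
  map_smul' r m := φ.app_smul r m

theorem injLoc_of_sep [M.IsQuasicoherent] [∀ i, (N i).IsQuasicoherent] (v : ∀ i, M ⟶ N i) (h : Sep v)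
    {V : X.Opens} (hV : IsAffineOpen V) : InjLoc fun i => appₗ (v i) V := by
  intro g a ha
  refine (localizes_of_isAffineOpen M hV g).sep a (h _ _ fun i => ?_)
  obtain ⟨n, hn⟩ := ha i
  have h1 := congrArg (res (N i) (X.basicOpen_le g)) hn
  rw [res_smul, map_zero, map_pow] at h1
  have hu : IsUnit (resR (X.basicOpen_le g) g) := RingedSpace.isUnit_res_basicOpen _ g
  rw [← res_app]
  exact (hu.pow n).smul_eq_zero.1 h1

theorem sep_of_injLoc [M.IsQuasicoherent] [∀ i, (N i).IsQuasicoherent] (v : ∀ i, M ⟶ N i)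
    (h : ∀ x : X, ∃ V : X.Opens, IsAffineOpen V ∧ x ∈ V ∧ InjLoc fun i => appₗ (v i) V) : Sep v := by
  intro W t ht
  refine TopCat.Sheaf.eq_of_locally_eq' (⟨M.presheaf, M.isSheaf⟩ : TopCat.Sheaf Ab X)
    (fun D : {D : X.Opens // D ≤ W ∧ ∀ hD : D ≤ W, res M hD t = 0} => D.1) _
    (fun D => homOfLE D.2.1) ?_ _ _ fun D => Eq.trans (D.2.2 D.2.1) (map_zero _).symm
  intro x hx
  obtain ⟨V, hV, hxV, hinj⟩ := h x
  obtain ⟨g, hgW, hxg⟩ := hV.exists_basicOpen_le ⟨x, hx⟩ hxV
  refine TopologicalSpace.Opens.mem_iSup.2 ⟨⟨X.basicOpen g, hgW, fun hD => ?_⟩, hxg⟩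
  obtain ⟨n, a, ha⟩ := (localizes_of_isAffineOpen M hV g).ext' (res M hD t)
  obtain ⟨m, hm⟩ := hinj g a fun i => by
    refine (localizes_of_isAffineOpen (N i) hV g).sep _ ?_
    show res (N i) (X.basicOpen_le g) ((v i).app V a) = 0
    rw [res_app, ha, Scheme.Modules.Hom.app_smul, ← res_app, ht i, map_zero, smul_zero]
  have h1 := congrArg (res M (X.basicOpen_le g)) hm
  rw [res_smul, map_zero, ha, map_pow, ← mul_smul, ← pow_add] at h1
  have hu : IsUnit (resR (X.basicOpen_le g) g) := RingedSpace.isUnit_res_basicOpen _ g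
  exact (hu.pow (m + n)).smul_eq_zero.1 h1

variable {X' : Scheme.{u}}

/-- The family pulled back, on an affine open over an affine open. -/
theorem injLoc_pullback_iff [M.IsQuasicoherent] [∀ i, (N i).IsQuasicoherent] (g : X' ⟶ X) (v : ∀ i, M ⟶ N i)
    {V : X.Opens} (hV : IsAffineOpen V) {U : X'.Opens} (hU : IsAffineOpen U) (e : U ≤ g ⁻¹ᵁ V) :
    InjLoc (fun i => appₗ ((Scheme.Modules.pullback g).map (v i)) U) ↔
      (letI := (g.appLE V U e).hom.toAlgebra
      BCInj (fun i => appₗ (v i) V) Γ(X', U)) := by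
  letI := (g.appLE V U e).hom.toAlgebra
  letI : ∀ P : X.Modules, Module Γ(X, V) Γ((Scheme.Modules.pullback g).obj P, U) := fun _ =>
    Module.compHom _ (g.appLE V U e).hom
  haveI : ∀ P : X.Modules, IsScalarTower Γ(X, V) Γ(X', U) Γ((Scheme.Modules.pullback g).obj P, U) := fun _ =>
    IsScalarTower.of_algebraMap_smul fun _ _ => rfl
  have hbM := CechRes.PullSec.isBaseChange_mu g M hV hU e
  have hbN := fun i => CechRes.PullSec.isBaseChange_mu g (N i) hV hU e
  have hc : ∀ i x, (hbN i).equiv (((appₗ (v i) V).baseChange Γ(X', U)) x) =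
      ((Scheme.Modules.pullback g).map (v i)).app U (hbM.equiv x) := by
    intro i x
    induction x using TensorProduct.induction_on with
    | zero => simp
    | add a b ha hb => simp only [map_add, ha, hb]
    | tmul s m =>
      rw [LinearMap.baseChange_tmul, IsBaseChange.equiv_tmul, IsBaseChange.equiv_tmul,
        Scheme.Modules.Hom.app_smul]
      exact congrArg (s • ·) (CechRes.PullSec.mu_natural g M (v i) e m)
  constructor
  · refine InjLoc.transfer _ (RingHom.id _) hbM.equiv.toLinearMap.toAddMonoidHom hbM.equiv.injective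
      (fun r x => hbM.equiv.map_smul r x) (fun i => (hbN i).equiv.toLinearMap.toAddMonoidHom)
      (fun i r y => (hbN i).equiv.map_smul r y) fun i x => hc i x
  · refine InjLoc.transfer _ (RingHom.id _) hbM.equiv.symm.toLinearMap.toAddMonoidHom hbM.equiv.symm.injective
      (fun r x => hbM.equiv.symm.map_smul r x) (fun i => (hbN i).equiv.symm.toLinearMap.toAddMonoidHom)
      (fun i r y => (hbN i).equiv.symm.map_smul r y) fun i x => ?_
    show (hbN i).equiv.symm _ = ((appₗ (v i) V).baseChange Γ(X', U)) (hbM.equiv.symm x)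
    rw [LinearEquiv.symm_apply_eq, hc, LinearEquiv.apply_symm_apply]
    rfl

variable {S S' : Scheme.{u}}

/-- The condition on one chart of a base change. -/
def ChartSep (p : X ⟶ S) (g : S' ⟶ S) (v : ∀ i, M ⟶ N i) {US : S.Opens} {V : X.Opens} {U' : S'.Opens}
    (eV : V ≤ p ⁻¹ᵁ US) (eU : U' ≤ g ⁻¹ᵁ US) : Prop :=
  letI := (p.appLE US V eV).hom.toAlgebra
  letI := (g.appLE US U' eU).hom.toAlgebra
  BCInj (fun i => appₗ (v i) V) (Γ(X, V) ⊗[Γ(S, US)] Γ(S', U'))

/-- The pulled back family. -/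
noncomputable abbrev pbHom (p : X ⟶ S) (g : S' ⟶ S) (v : ∀ i, M ⟶ N i) (i : ι) :
    (Scheme.Modules.pullback (pullback.fst p g)).obj M ⟶ (Scheme.Modules.pullback (pullback.fst p g)).obj (N i) :=
  (Scheme.Modules.pullback (pullback.fst p g)).map (v i)

theorem chartSep_iff [M.IsQuasicoherent] [∀ i, (N i).IsQuasicoherent] (p : X ⟶ S) (g : S' ⟶ S)
    (v : ∀ i, M ⟶ N i) {US : S.Opens} {V : X.Opens} {U' : S'.Opens} (hUS : IsAffineOpen US)
    (hV : IsAffineOpen V) (hU' : IsAffineOpen U') (eV : V ≤ p ⁻¹ᵁ US) (eU : U' ≤ g ⁻¹ᵁ US) :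
    ChartSep p g v eV eU ↔
      InjLoc fun i => appₗ (pbHom p g v i) (pullback.fst p g ⁻¹ᵁ V ⊓ pullback.snd p g ⁻¹ᵁ U') := by
  unfold ChartSep
  letI := (p.appLE US V eV).hom.toAlgebra
  letI := (g.appLE US U' eU).hom.toAlgebra
  obtain ⟨hO, e, he⟩ := exists_chartEquiv (IsPullback.of_hasPullback p g) hUS hV hU' eV eU
  rw [injLoc_pullback_iff (pullback.fst p g) v hV hO inf_le_left]
  letI := ((pullback.fst p g).appLE V (pullback.fst p g ⁻¹ᵁ V ⊓ pullback.snd p g ⁻¹ᵁ U') inf_le_left).hom.toAlgebra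
  let eA : (Γ(X, V) ⊗[Γ(S, US)] Γ(S', U')) ≃ₐ[Γ(X, V)]
      Γ(pullback p g, pullback.fst p g ⁻¹ᵁ V ⊓ pullback.snd p g ⁻¹ᵁ U') := AlgEquiv.ofRingEquiv (f := e) fun a => by
    rw [Algebra.TensorProduct.algebraMap_apply, he, map_one, mul_one]
    rfl
  exact ⟨fun h => h.of_algEquiv eA, fun h => h.of_algEquiv eA.symm⟩

theorem chartSep_of_sep [M.IsQuasicoherent] [∀ i, (N i).IsQuasicoherent] (p : X ⟶ S) (g : S' ⟶ S)
    (v : ∀ i, M ⟶ N i) (h : Sep (pbHom p g v)) {US : S.Opens} {V : X.Opens} {U' : S'.Opens}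
    (hUS : IsAffineOpen US) (hV : IsAffineOpen V) (hU' : IsAffineOpen U') (eV : V ≤ p ⁻¹ᵁ US)
    (eU : U' ≤ g ⁻¹ᵁ US) : ChartSep p g v eV eU := by
  haveI := QCoh.Pullback.isQCoh_pullback (pullback.fst p g) M
  haveI := fun i => QCoh.Pullback.isQCoh_pullback (pullback.fst p g) (N i)
  exact (chartSep_iff p g v hUS hV hU' eV eU).2
    (injLoc_of_sep _ h (exists_chartEquiv (IsPullback.of_hasPullback p g) hUS hV hU' eV eU).1)

theorem sep_of_chartSep [M.IsQuasicoherent] [∀ i, (N i).IsQuasicoherent] (p : X ⟶ S) (g : S' ⟶ S)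
    (v : ∀ i, M ⟶ N i)
    (h : ∀ s : S, ∃ US : S.Opens, IsAffineOpen US ∧ s ∈ US ∧ ∀ (V : X.Opens) (U' : S'.Opens),
      IsAffineOpen V → IsAffineOpen U' → ∀ (eV : V ≤ p ⁻¹ᵁ US) (eU : U' ≤ g ⁻¹ᵁ US), ChartSep p g v eV eU) :
    Sep (pbHom p g v) := by
  haveI := QCoh.Pullback.isQCoh_pullback (pullback.fst p g) M
  haveI := fun i => QCoh.Pullback.isQCoh_pullback (pullback.fst p g) (N i)
  refine sep_of_injLoc _ fun y => ?_
  obtain ⟨US, hUS, hyU, hchart⟩ := h (p (pullback.fst p g y))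
  obtain ⟨V, hV, hyV, eV⟩ := exists_isAffineOpen_mem_and_subset (x := pullback.fst p g y) (U := p ⁻¹ᵁ US) hyU
  obtain ⟨U', hU', hyU', eU⟩ := exists_isAffineOpen_mem_and_subset (x := pullback.snd p g y) (U := g ⁻¹ᵁ US) (by
      show g (pullback.snd p g y) ∈ US
      rw [← Scheme.Hom.comp_apply, ← pullback.condition, Scheme.Hom.comp_apply]
      exact hyU)
  exact ⟨_, (exists_chartEquiv (IsPullback.of_hasPullback p g) hUS hV hU' eV eU).1, ⟨hyV, hyU'⟩,
    (chartSep_iff p g v hUS hV hU' eV eU).1 (hchart V U' hV hU' eV eU)⟩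

end Groth.Agent.Lib.SchDom
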