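import Groth.Agent.Lib.SchDom.Field
import Mathlib.RingTheory.Filtration
import Mathlib.RingTheory.LocalRing.ResidueField.Ideal
import Mathlib.RingTheory.Flat.Stability
import Mathlib.RingTheory.FiniteStability
import Mathlib.LinearAlgebra.TensorProduct.Quotient

/-!
# Fibrewise criterion for universal schematic dominance (EGA IV 11.10.10)
-/

set_option autoImplicit false
set_option linter.style.haveILetI false

universe u

open TensorProduct

namespace Groth.Agent.Lib.SchDom

variable {R : Type u} [CommRing R] {A : Type u} [CommRing A] [Algebra R A]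
  {M : Type u} [AddCommGroup M] [Module A M] [Module R M] [IsScalarTower R A M]
  {ι : Type u} {N : ι → Type u} [∀ i, AddCommGroup (N i)] [∀ i, Module A (N i)] [∀ i, Module R (N i)]
  [∀ i, IsScalarTower R A (N i)]

/-- Fibrewise dominance on every open gives dominance on every open. -/
theorem injLoc_of_fibres [IsNoetherianRing A] [Module.Finite A M] [∀ i, Module.Flat R (N i)]
    (u : ∀ i, M →ₗ[A] N i)
    (h : ∀ (p : Ideal R) [p.IsPrime], BCInj u (A ⊗[R] p.ResidueField)) : InjLoc u := by
  classical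
  by_contra hcon
  obtain ⟨g, x, Q, hQ, hgQ, hann, hcond⟩ := exists_prime_of_not hcon
  let p : Ideal R := Q.comap (algebraMap R A)
  haveI : p.IsPrime := Ideal.IsPrime.comap _
  let I : Ideal A := p.map (algebraMap R A)
  have hsmul : ∀ (n : ℕ) (m : M), m ∈ I ^ n • (⊤ : Submodule A M) ↔ m ∈ p ^ n • (⊤ : Submodule R M) := by
    intro n m
    rw [← Ideal.map_pow, ← Submodule.restrictScalars_mem R, Ideal.smul_restrictScalars,
      Submodule.restrictScalars_top]
  -- some power of `p` misses `A x` up to elements outside `Q`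
  have hbound : ∃ K : ℕ, ∀ s, s ∉ Q → s • x ∉ p ^ K • (⊤ : Submodule R M) := by
    obtain ⟨c, hc⟩ := I.exists_pow_inf_eq_pow_smul (Submodule.span A {x})
    refine ⟨c + 1, fun s hs hmem => hs ((hann s).1 ?_)⟩
    have h1 : s • x ∈ I ^ (c + 1 - c) • (I ^ c • (⊤ : Submodule A M) ⊓ Submodule.span A {x}) := by
      rw [← hc (c + 1) (Nat.le_succ c)]
      exact ⟨(hsmul _ _).2 hmem, Submodule.smul_mem _ _ (Submodule.mem_span_singleton_self x)⟩
    rw [show c + 1 - c = 1 by omega, pow_one] at h1
    have hle : I • (I ^ c • (⊤ : Submodule A M) ⊓ Submodule.span A {x}) ≤ ⊥ := by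
      refine (Submodule.smul_mono le_rfl inf_le_right).trans (Submodule.smul_le.2 fun j hj m hm => ?_)
      obtain ⟨a, rfl⟩ := Submodule.mem_span_singleton.1 hm
      rw [Submodule.mem_bot, smul_comm, (hann j).2 (Ideal.map_comap_le hj), smul_zero]
    exact (Submodule.mem_bot A).1 (hle h1)
  let Pk : ℕ → Prop := fun n => ∃ s, s ∉ Q ∧ s • x ∈ p ^ n • (⊤ : Submodule R M)
  obtain ⟨k, hk, hk'⟩ : ∃ k, Pk k ∧ ¬ Pk (k + 1) := by
    by_contra hno
    push Not at hno
    obtain ⟨K, hK⟩ := hbound
    have hall : ∀ n, Pk n := by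
      intro n
      induction n with
      | zero => exact ⟨1, fun h1 => hQ.ne_top ((Ideal.eq_top_iff_one _).2 h1), by simp⟩
      | succ n ih => exact hno n ih
    obtain ⟨s, hs, hmem⟩ := hall K
    exact hK s hs hmem
  obtain ⟨s, hs, hsx⟩ := hk
  -- a lift to the graded piece
  let V : Submodule R R := p ^ k
  let μ : M ⊗[R] V →ₗ[A] M :=
    (AlgebraTensorModule.rid R A M).toLinearMap ∘ₗ AlgebraTensorModule.map LinearMap.id V.subtype
  obtain ⟨z, hz⟩ : ∃ z, μ z = s • x := by
    refine Submodule.smul_induction_on hsx (fun r hr m _ => ⟨m ⊗ₜ (⟨r, hr⟩ : V), by simp [μ]⟩) ?_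
    rintro _ _ ⟨a, rfl⟩ ⟨b, rfl⟩
    exact ⟨a + b, map_add _ _ _⟩
  let W : Submodule R V := p • ⊤
  let G := ↥V ⧸ W
  have hW : W = Submodule.comap V.subtype (p ^ (k + 1) : Ideal R) := by
    ext r
    rw [Submodule.mem_comap, Submodule.mem_smul_top_iff, pow_succ']
    rfl
  let j : G →ₗ[R] R ⧸ p ^ (k + 1) := W.mapQ _ V.subtype hW.le
  have hj : Function.Injective j := by
    rw [injective_iff_map_eq_zero]
    intro v hv
    obtain ⟨r, rfl⟩ := Submodule.Quotient.mk_surjective _ v
    rw [Submodule.mapQ_apply, Submodule.Quotient.mk_eq_zero] at hv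
    rw [Submodule.Quotient.mk_eq_zero, hW]
    exact hv
  let π : M ⊗[R] V →ₗ[A] M ⊗[R] G := AlgebraTensorModule.map LinearMap.id W.mkQ
  let jM : M ⊗[R] G →ₗ[A] M ⊗[R] (R ⧸ p ^ (k + 1)) := AlgebraTensorModule.map LinearMap.id j
  have hcommM : ∀ y, jM (π y) = μ y ⊗ₜ[R] (Ideal.Quotient.mk (p ^ (k + 1)) 1) := by
    intro y
    induction y using TensorProduct.induction_on with
    | zero => simp
    | tmul m r =>
      simp only [jM, π, μ, j, LinearMap.coe_comp, LinearEquiv.coe_coe, Function.comp_apply,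
        AlgebraTensorModule.map_tmul, LinearMap.id_apply, Submodule.mkQ_apply, Submodule.mapQ_apply,
        AlgebraTensorModule.rid_tmul, Submodule.subtype_apply]
      rw [TensorProduct.smul_tmul]
      show m ⊗ₜ[R] (Submodule.Quotient.mk (r : R) : R ⧸ p ^ (k + 1)) = _
      rw [Ideal.Quotient.mk_eq_mk, ← Ideal.Quotient.algebraMap_eq,
        Algebra.smul_def, map_one, mul_one]
    | add a b ha hb => simp only [map_add, TensorProduct.add_tmul, ha, hb]
  let y := π z
  have hy : ∀ i, ∃ n : ℕ, g ^ n • AlgebraTensorModule.map (u i) (LinearMap.id : G →ₗ[R] G) y = 0 := by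
    intro i
    obtain ⟨n, hn⟩ := hcond i
    refine ⟨n, ?_⟩
    let jN : N i ⊗[R] G →ₗ[A] N i ⊗[R] (R ⧸ p ^ (k + 1)) := AlgebraTensorModule.map LinearMap.id j
    have hjN : Function.Injective jN := Module.Flat.lTensor_preserves_injective_linearMap j hj
    refine hjN ?_
    have h1 : ∀ w : M ⊗[R] G, jN (AlgebraTensorModule.map (u i) LinearMap.id w) =
        AlgebraTensorModule.map (u i) LinearMap.id (jM w) := by
      intro w
      induction w using TensorProduct.induction_on with
      | zero => simp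
      | tmul m v => simp [jN, jM]
      | add a b ha hb => simp only [map_add, ha, hb]
    rw [map_zero, map_smul, h1, show jM y = _ from hcommM z, hz, AlgebraTensorModule.map_tmul,
      TensorProduct.smul_tmul', map_smul, smul_comm, hn, smul_zero, TensorProduct.zero_tmul]
  -- coordinates in the fibre
  let κ := p.ResidueField
  obtain ⟨⟨J₀, b⟩⟩ := Module.Free.exists_basis (R := κ) (M := κ ⊗[R] G)
  let ψ : G →ₗ[R] (J₀ →₀ κ) :=
    (b.repr.restrictScalars R).toLinearMap ∘ₗ TensorProduct.mk R κ G 1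
  let cM : M ⊗[R] G →ₗ[A] (J₀ →₀ M ⊗[R] κ) :=
    (TensorProduct.finsuppRight R A M κ J₀).toLinearMap ∘ₗ AlgebraTensorModule.map LinearMap.id ψ
  have hcoord : ∀ l, ∃ n : ℕ, g ^ n • cM y l = 0 := by
    intro l
    have hl : ∀ i, ∃ n : ℕ, algebraMap A (A ⊗[R] κ) g ^ n •
        (u i).baseChange (A ⊗[R] κ) ((swapEq κ).symm (cM y l)) = 0 := by
      intro i
      obtain ⟨n, hn⟩ := hy i
      refine ⟨n, (swapEq κ).injective ?_⟩
      have h1 : ∀ w : M ⊗[R] G, AlgebraTensorModule.map (u i) (LinearMap.id : κ →ₗ[R] κ) (cM w l) =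
          ((TensorProduct.finsuppRight R A (N i) κ J₀) (AlgebraTensorModule.map (LinearMap.id : N i →ₗ[A] N i) ψ
            (AlgebraTensorModule.map (u i) (LinearMap.id : G →ₗ[R] G) w))) l := by
        intro w
        induction w using TensorProduct.induction_on with
        | zero => simp
        | tmul m v => simp [cM]
        | add a b ha hb => simp only [map_add, Finsupp.add_apply, ha, hb]
      rw [map_zero, ← map_pow, algebraMap_smul, map_smul, swapEq_natural, LinearEquiv.apply_symm_apply,
        h1, ← Finsupp.smul_apply, ← map_smul, ← map_smul, hn, map_zero, map_zero, Finsupp.zero_apply]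
    obtain ⟨n, hn⟩ := h p _ _ hl
    refine ⟨n, (swapEq (R := R) (A := A) (M := M) κ).symm.injective ?_⟩
    rw [map_smul, map_zero]
    rwa [← map_pow, algebraMap_smul] at hn
  choose n hn using hcoord
  have hzero : cM (g ^ (cM y).support.sup n • y) = 0 := by
    ext l
    rw [map_smul, Finsupp.smul_apply, Finsupp.zero_apply]
    by_cases hl : l ∈ (cM y).support
    · obtain ⟨e, he⟩ := Nat.exists_eq_add_of_le (Finset.le_sup (f := n) hl)
      rw [he, pow_add, mul_comm, mul_smul, hn l, smul_zero]
    · rw [Finsupp.notMem_support_iff.1 hl, smul_zero]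
  set w := g ^ (cM y).support.sup n • y with hw
  have hmk : (TensorProduct.mk R κ G 1).lTensor M w = 0 := by
    refine (LinearEquiv.lTensor M (b.repr.restrictScalars R)).injective ?_
    have h1 := (TensorProduct.finsuppRight R A M κ J₀).map_eq_zero_iff.1 hzero
    rw [map_zero, ← h1]
    clear_value w
    clear hzero h1 hw
    induction w using TensorProduct.induction_on with
    | zero => simp
    | tmul m v => simp [ψ]
    | add a b ha hb => simp only [map_add, ha, hb]
  have h2 : ((1 : κ) ⊗ₜ[R] w) = 0 := by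
    have h3 : ∀ w' : M ⊗[R] G, (TensorProduct.leftComm R M κ G) ((TensorProduct.mk R κ G 1).lTensor M w') =
        (1 : κ) ⊗ₜ[R] w' := by
      intro w'
      induction w' using TensorProduct.induction_on with
      | zero => simp
      | tmul m v => simp
      | add a b ha hb => simp only [map_add, TensorProduct.tmul_add, ha, hb]
    rw [← h3, hmk, map_zero]
  have hkillMG : ∀ r ∈ p, ∀ w' : M ⊗[R] G, r • w' = 0 := by
    intro r hr w'
    induction w' using TensorProduct.induction_on with
    | zero => rw [smul_zero]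
    | tmul m v =>
      obtain ⟨v, rfl⟩ := Submodule.Quotient.mk_surjective _ v
      rw [← TensorProduct.tmul_smul, ← Submodule.Quotient.mk_smul,
        (Submodule.Quotient.mk_eq_zero _).2 (Submodule.smul_mem_smul hr Submodule.mem_top), TensorProduct.tmul_zero]
    | add a b ha hb => rw [smul_add, ha, hb, add_zero]
  obtain ⟨t, htS, ht⟩ := killed_loc p (nonZeroDivisors (R ⧸ p)) κ hkillMG h2
  have htp : t ∉ p := fun hm => zero_notMem_nonZeroDivisors (Ideal.Quotient.eq_zero_iff_mem.2 hm ▸ htS)
  refine hk' ⟨algebraMap R A t * g ^ (cM y).support.sup n * s, ?_, ?_⟩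
  · exact fun hm => (hQ.mem_or_mem hm).elim (fun hm' => (hQ.mem_or_mem hm').elim htp
      fun hg' => hgQ (hQ.mem_of_pow_mem _ hg')) hs
  · have h4 := congrArg jM ht
    rw [map_zero, ← algebraMap_smul A, map_smul, map_smul, show jM y = _ from hcommM z, hz,
      TensorProduct.smul_tmul', TensorProduct.smul_tmul', ← mul_smul, ← mul_smul] at h4
    have h5 := congrArg (TensorProduct.tensorQuotEquivQuotSMul M (p ^ (k + 1))) h4
    rw [map_zero, TensorProduct.tensorQuotEquivQuotSMul_tmul_mk, one_smul, Submodule.Quotient.mk_eq_zero] at h5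
    exact h5

attribute [local instance] Algebra.TensorProduct.rightAlgebra

/-- `(A ⊗ S) ⊗_S K` is `A ⊗ K`. -/
theorem nonempty_assocEquiv (S : Type u) [CommRing S] [Algebra R S] (K : Type u) [CommRing K] [Algebra R K]
    [Algebra S K] [IsScalarTower R S K] :
    Nonempty (((A ⊗[R] S) ⊗[S] K) ≃ₐ[A] A ⊗[R] K) := by
  let e : ((A ⊗[R] S) ⊗[S] K) ≃+* A ⊗[R] K :=
    (Algebra.TensorProduct.comm S (A ⊗[R] S) K).toRingEquiv.trans <|
      (Algebra.TensorProduct.congr (AlgEquiv.refl : K ≃ₐ[S] K)
        (Algebra.TensorProduct.commRight R S A).symm).toRingEquiv.trans <|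
      (Algebra.TensorProduct.cancelBaseChange R S S K A).toRingEquiv.trans
        (Algebra.TensorProduct.comm R K A).toRingEquiv
  refine ⟨AlgEquiv.ofRingEquiv (f := e) fun a => ?_⟩
  simp [e]

/-- Universal schematic dominance from fibrewise dominance. -/
theorem bcInj_of_fibres [IsNoetherianRing A] [Module.Finite A M] [∀ i, Module.Flat R (N i)]
    (u : ∀ i, M →ₗ[A] N i)
    (h : ∀ (p : Ideal R) [p.IsPrime], BCInj u (A ⊗[R] p.ResidueField))
    (B : Type u) [CommRing B] [Algebra R B] : BCInj u (A ⊗[R] B) := by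
  classical
  intro g a hga
  obtain ⟨Sg, hSg⟩ := TensorProduct.exists_finset g
  obtain ⟨Sa, hSa⟩ := TensorProduct.exists_finset a
  choose St hSt using fun t : A ⊗[R] B => TensorProduct.exists_finset t
  let pairs : Finset (A × B) := Sg ∪ Sa.biUnion fun p => St p.1
  let B₀ : Subalgebra R B := Algebra.adjoin R (pairs.image Prod.snd : Set B)
  haveI : Algebra.FiniteType R B₀ := (Subalgebra.fg_iff_finiteType _).1 ⟨_, rfl⟩
  haveI : IsNoetherianRing (A ⊗[R] B₀) := Algebra.FiniteType.isNoetherianRing A (A ⊗[R] B₀)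
  let ρ := ringMap (R := R) (A := A) (A₀ := A) B₀.val
  have hrange : ∀ p ∈ pairs, p.1 ⊗ₜ[R] p.2 ∈ ρ.range := fun p hp =>
    ⟨p.1 ⊗ₜ (⟨p.2, Algebra.subset_adjoin (Finset.mem_image_of_mem _ hp)⟩ : B₀), rfl⟩
  obtain ⟨g', hg'⟩ : g ∈ ρ.range := by
    rw [hSg]
    exact sum_mem fun p hp => hrange p (Finset.mem_union_left _ hp)
  let e₀ := cmp (A := A) B₀.val (LinearMap.id : M →ₗ[A] M)
  obtain ⟨a', ha'⟩ : a ∈ LinearMap.range e₀ := by
    rw [hSa]
    refine sum_mem fun p hp => ?_
    obtain ⟨t', ht'⟩ : p.1 ∈ ρ.range := by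
      rw [hSt p.1]
      exact sum_mem fun r hr => hrange r (Finset.mem_union_right _ (Finset.mem_biUnion.2 ⟨p, hp, hr⟩))
    exact ⟨t' ⊗ₜ p.2, (cmp_tmul _ _ _ _).trans (congrArg (· ⊗ₜ[A] p.2) ht')⟩
  haveI : ∀ i, Module.Flat B₀ ((A ⊗[R] B₀) ⊗[A] N i) := by
    intro i
    let eR : (A ⊗[R] B₀) ⊗[A] N i ≃ₗ[R] B₀ ⊗[R] N i :=
      (swapEq (B₀ : Type u)).restrictScalars R ≪≫ₗ TensorProduct.comm R (N i) B₀
    refine Module.Flat.of_linearEquiv (M := B₀ ⊗[R] N i)
      { eR.toAddEquiv with map_smul' := fun c v => ?_ }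
    show eR (c • v) = c • eR v
    induction v using TensorProduct.induction_on with
    | zero => rw [map_zero]; exact (congrArg eR (smul_zero c)).trans ((map_zero eR).trans (smul_zero c).symm)
    | add v w hv hw => exact (congrArg eR (smul_add c v w)).trans ((map_add eR _ _).trans ((congrArg₂ (· + ·) hv hw).trans ((smul_add c _ _).symm.trans (congrArg (c • ·) (map_add eR v w).symm))))
    | tmul t m =>
      induction t using TensorProduct.induction_on with
      | zero => rw [TensorProduct.zero_tmul, map_zero]; exact (congrArg eR (smul_zero c)).trans ((map_zero eR).trans (smul_zero c).symm)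
      | add s t hs ht => rw [TensorProduct.add_tmul]; exact (congrArg eR (smul_add c _ _)).trans ((map_add eR _ _).trans ((congrArg₂ (· + ·) hs ht).trans ((smul_add c _ _).symm.trans (congrArg (c • ·) (map_add eR _ _).symm))))
      | tmul a b =>
        rw [TensorProduct.smul_tmul', Algebra.smul_def, Algebra.TensorProduct.right_algebraMap_apply,
          Algebra.TensorProduct.tmul_mul_tmul, one_mul]
        simp [eR, TensorProduct.smul_tmul']
  have hc₀ : BCInj u (A ⊗[R] B₀) := by
    refine injLoc_of_fibres (R := B₀) (A := A ⊗[R] B₀) (M := (A ⊗[R] B₀) ⊗[A] M)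
      (N := fun i => (A ⊗[R] B₀) ⊗[A] N i) (fun i => (u i).baseChange (A ⊗[R] B₀)) fun q _ => ?_
    rw [bcInj_baseChange_iff]
    obtain ⟨e⟩ := nonempty_assocEquiv (R := R) (A := A) (B₀ : Type u) q.ResidueField
    refine BCInj.of_algEquiv e.symm ?_
    let p : Ideal R := q.comap (algebraMap R B₀)
    haveI : p.IsPrime := Ideal.IsPrime.comap _
    letI : Algebra p.ResidueField q.ResidueField :=
      (Ideal.ResidueField.mapₐ p q (Algebra.ofId R B₀) rfl).toRingHom.toAlgebra
    haveI : IsScalarTower R p.ResidueField q.ResidueField :=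
      IsScalarTower.of_algebraMap_eq fun r =>
        ((Ideal.ResidueField.mapₐ p q (Algebra.ofId R B₀) rfl).commutes r).symm
    have hf := bcInj_of_field (k := p.ResidueField) (fun i => (u i).baseChange (A ⊗[R] p.ResidueField))
      (h p) q.ResidueField
    rw [bcInj_baseChange_iff] at hf
    obtain ⟨e'⟩ := nonempty_assocEquiv (R := R) (A := A) p.ResidueField q.ResidueField
    exact hf.of_algEquiv e'
  have hθ : ∀ i, Function.Injective (cmp (A := A) B₀.val (LinearMap.id : N i →ₗ[A] N i)) := fun i => by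
    refine cmp_injective _ _ ?_
    exact Module.Flat.lTensor_preserves_injective_linearMap B₀.val.toLinearMap Subtype.val_injective
  have hcomm : ∀ i x, cmp (A := A) B₀.val (LinearMap.id : N i →ₗ[A] N i) ((u i).baseChange _ x) =
      (u i).baseChange (A ⊗[R] B) (e₀ x) := by
    intro i x
    induction x using TensorProduct.induction_on with
    | zero => simp
    | tmul t m => simp [e₀, cmp_tmul]
    | add v w hv hw => simp only [map_add, hv, hw]
  obtain ⟨n, hn⟩ := hc₀ g' a' fun i => by
    obtain ⟨n, hn⟩ := hga i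
    refine ⟨n, hθ i ?_⟩
    rw [cmp_smul, map_pow, show ringMap (A := A) B₀.val g' = g from hg', hcomm, show e₀ a' = a from ha', hn, map_zero]
  exact ⟨n, by rw [← show ringMap (A := A) B₀.val g' = g from hg', ← ha', ← map_pow, ← cmp_smul, hn, map_zero]⟩

end Groth.Agent.Lib.SchDom
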